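import Groth.Agent.OmegaSheaf.DiffSequence
import Groth.Agent.OmegaSheaf.Pull
import Mathlib.RingTheory.Kaehler.Basic

/-!
The cotangent sequence `f^*Ω_{Y/S} → Ω_{X/S} → Ω_{X/Y} → 0`.
-/

set_option autoImplicit false
set_option linter.style.haveILetI false

universe u

open CategoryTheory Limits AlgebraicGeometry TopologicalSpace TensorProduct Opposite

namespace Groth.Curves1.Hurwitz

open Groth.OmegaSheaf

variable {X Y S : Scheme.{u}} (f : X ⟶ Y) (g : Y ⟶ S)

/-- A derivation over `Y` as a derivation over `S`. -/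
noncomputable def compDer {M : X.Modules} (D : OmegaSh.Der f M) : OmegaSh.Der (f ≫ g) M where
  d {U} := D.app U.unop
  d_mul {U} a b := der_mul D U.unop a b
  d_map {U U'} i s := D.d_map i s
  d_app {V} r := D.d_app (X := op (g ⁻¹ᵁ V.unop)) (g.app V.unop r)

theorem compDer_app {M : X.Modules} (D : OmegaSh.Der f M) (U : X.Opens) (s : Γ(X, U)) :
    (compDer f g D).app U s = D.app U s := rfl

/-- The cotangent sequence of a composite. -/
theorem exists_cotangent {ΩY : Y.Modules} {dY : OmegaSh.Der g ΩY} (hY : OmegaSh.IsUniversal dY)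
    {ΩX : X.Modules} {dX : OmegaSh.Der (f ≫ g) ΩX} (hX : OmegaSh.IsUniversal dX)
    {Ωf : X.Modules} {df : OmegaSh.Der f Ωf} (hf : OmegaSh.IsUniversal df) :
    ∃ (c : (Scheme.Modules.pullback f).obj ΩY ⟶ ΩX) (p : ΩX ⟶ Ωf) (w : c ≫ p = 0),
      OmegaSh.IsDiffCompat f dY dX c ∧ (ShortComplex.mk c p w).Exact ∧ Epi p := by
  haveI := isQCoh_of_isUniversal hX
  haveI := isQCoh_of_isUniversal hf
  obtain ⟨c, hc, -⟩ := existsUnique_isDiffCompat (f' := f ≫ g) (h := f) (g := 𝟙 S)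
    (Ω₂ := ΩX) (d₂ := dX) hY (by rw [Category.comp_id])
  obtain ⟨p, hp⟩ := exists_hom_of_isUniversal hX (compDer f g df)
  have w : c ≫ p = 0 := by
    apply ((Scheme.Modules.pullbackPushforwardAdjunction f).homEquiv ΩY Ωf).injective
    refine hom_ext_of_isUniversal hY fun U s => ?_
    refine (homEquiv_pullback_app (c ≫ p) U (dY.app U s)).trans ?_
    refine Eq.trans ?_ (homEquiv_pullback_app (0 : (Scheme.Modules.pullback f).obj ΩY ⟶ Ωf) U (dY.app U s)).symm
    change p.app (f ⁻¹ᵁ U) (c.app (f ⁻¹ᵁ U) (OmegaSh.pullSect f ΩY U (dY.app U s))) = 0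
    rw [hc U s, hp, compDer_app]
    exact df.d_app (X := op U) s
  -- the second map on charts
  have hchart : ∀ (c₁ : Chart g) (P : X.Opens) (e : P ≤ f ⁻¹ᵁ c₁.U),
      letI := chartAlg g c₁.e
      letI := chartAlg f e
      letI := chartAlg (f ≫ g) (e.trans (f.preimage_mono c₁.e))
      ∀ Ψ : Ω[Γ(X, P)⁄Γ(S, c₁.V)] →ₗ[Γ(X, P)] Ω[Γ(X, P)⁄Γ(Y, c₁.U)],
        (∀ s, Ψ (KaehlerDifferential.D Γ(S, c₁.V) Γ(X, P) s) = KaehlerDifferential.D Γ(Y, c₁.U) Γ(X, P) s) →
        ∀ z, p.app P (chartLift (f ≫ g) (e.trans (f.preimage_mono c₁.e)) dX z) = chartLift f e df (Ψ z) := by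
    intro c₁ P e
    let _ := chartAlg g c₁.e
    let _ := chartAlg f e
    let _ := chartAlg (f ≫ g) (e.trans (f.preimage_mono c₁.e))
    intro Ψ hΨ z
    have hz : z ∈ Submodule.span Γ(X, P) (Set.range (KaehlerDifferential.D Γ(S, c₁.V) Γ(X, P))) := by
      rw [KaehlerDifferential.span_range_derivation]; trivial
    induction hz using Submodule.span_induction with
    | mem z hz =>
      obtain ⟨s, rfl⟩ := hz
      rw [hΨ, chartLift_D, chartLift_D, hp, compDer_app]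
    | zero => simp only [map_zero]
    | add a b _ _ ha hb => simp only [map_add]; rw [ha, hb]
    | smul r a _ ha => rw [LinearMap.map_smul, Scheme.Modules.Hom.app_smul, ha, LinearMap.map_smul, LinearMap.map_smul]
  refine ⟨c, p, w, hc, exact_of_affine_cover _ fun x => ?_, ?_⟩
  · obtain ⟨c₁, P, hP, e, hxP⟩ := exists_chart_triple f g x
    refine ⟨P, hP, hxP, fun m hm => ?_⟩
    change p.app P m = 0 at hm
    let _ := chartAlg g c₁.e
    let _ := Groth.QCohMod.sectionsAlg f e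
    let _ : Algebra Γ(S, c₁.V) Γ(X, P) := chartAlg (f ≫ g) (e.trans (f.preimage_mono c₁.e))
    haveI : IsScalarTower Γ(S, c₁.V) Γ(Y, c₁.U) Γ(X, P) := IsScalarTower.of_algebraMap_eq fun r =>
      congr($((Scheme.Hom.appLE_comp_appLE f g c₁.V c₁.U P c₁.e e).symm) r)
    let c₂ : Chart (f ≫ g) := ⟨P, c₁.V, hP, c₁.hV, e.trans (f.preimage_mono c₁.e)⟩
    let c₃ : Chart f := ⟨P, c₁.U, hP, c₁.hU, e⟩
    obtain ⟨v, rfl⟩ := (chartLift_bijective_of_isUniversal hX c₂).2 m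
    let Ψ := KaehlerDifferential.map Γ(S, c₁.V) Γ(Y, c₁.U) Γ(X, P) Γ(X, P)
    have h0 : chartLift f e df (Ψ v) = 0 :=
      (hchart c₁ P e Ψ (fun s => KaehlerDifferential.map_D _ _ _ _ s) v).symm.trans hm
    have h1 : Ψ v = 0 := (map_eq_zero_iff _ (chartLift_bijective_of_isUniversal hf c₃).1).mp h0
    obtain ⟨u, rfl⟩ := (KaehlerDifferential.exact_mapBaseChange_map Γ(S, c₁.V) Γ(Y, c₁.U) Γ(X, P) v).mp h1
    exact ⟨pullChartEquiv hY f c₁ hP e u,
      app_pullChartEquiv hY f c₁ hP e hc c₂.e (KaehlerDifferential.mapBaseChange Γ(S, c₁.V) Γ(Y, c₁.U) Γ(X, P))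
        (fun b s => by rw [KaehlerDifferential.mapBaseChange_tmul, KaehlerDifferential.map_D]; rfl) u⟩
  · refine epi_of_affine_cover p fun x => ?_
    obtain ⟨c₁, P, hP, e, hxP⟩ := exists_chart_triple f g x
    refine ⟨P, hP, hxP, fun y => ?_⟩
    let _ := chartAlg g c₁.e
    let _ := Groth.QCohMod.sectionsAlg f e
    let _ : Algebra Γ(S, c₁.V) Γ(X, P) := chartAlg (f ≫ g) (e.trans (f.preimage_mono c₁.e))
    haveI : IsScalarTower Γ(S, c₁.V) Γ(Y, c₁.U) Γ(X, P) := IsScalarTower.of_algebraMap_eq fun r =>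
      congr($((Scheme.Hom.appLE_comp_appLE f g c₁.V c₁.U P c₁.e e).symm) r)
    let c₃ : Chart f := ⟨P, c₁.U, hP, c₁.hU, e⟩
    obtain ⟨v, rfl⟩ := (chartLift_bijective_of_isUniversal hf c₃).2 y
    obtain ⟨v', hv'⟩ := KaehlerDifferential.map_surjective Γ(S, c₁.V) Γ(Y, c₁.U) Γ(X, P) v
    exact ⟨_, (hchart c₁ P e _ (fun s => KaehlerDifferential.map_D _ _ _ _ s) v').trans
      (congrArg (chartLift f e df) hv')⟩

end Groth.Curves1.Hurwitz
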