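import Groth.Agent.Curves1.Hurwitz.Semilocal
import Groth.Agent.Flatmor4.QuasiFiniteSplit

/-!
The fundamental identity `∑ e_x f_x = n` on a fibre of a finite morphism of curves.
-/

set_option autoImplicit false
set_option synthInstance.maxHeartbeats 400000
set_option backward.isDefEq.respectTransparency.types false

universe u

open CategoryTheory Limits AlgebraicGeometry IsLocalRing

namespace Groth.Curves1.Hurwitz

/-- The ramification indices, weighted by the residue degrees, sum up to the generic degree. -/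
theorem finsum_residueDegree_mul_ramificationIdx {X Y : Scheme.{u}} [IsIntegral X] [IsIntegral Y]
    [IsLocallyNoetherian X] [IsLocallyNoetherian Y] (π : X ⟶ Y) [IsFinite π]
    (e : π (genericPoint X) = genericPoint Y) (y : Y) (hy : ringKrullDim (Y.presheaf.stalk y) = 1)
    [IsDiscreteValuationRing (Y.presheaf.stalk y)]
    (hX : ∀ x : X, π x = y → IsDiscreteValuationRing (X.presheaf.stalk x)) :
    Finite {x : X // π x = y} ∧
      (∑ᶠ x : {x : X // π x = y}, (letI := (π.stalkMap x.1).hom.toAlgebra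
        (π.residueDegree x.1 : ℤ) *
          (Ideal.ramificationIdx (maximalIdeal (X.presheaf.stalk x.1)) (Y.presheaf.stalk (π x.1)) : ℤ))) =
        (π.residueDegree (genericPoint X) : ℤ) := by
  classical
  set ξ := genericPoint X
  have hspec : π ξ ⤳ y := e ▸ (genericPoint_spec Y).specializes trivial
  have hx : ∀ x : X, ξ ⤳ x := fun x => (genericPoint_spec X).specializes trivial
  obtain ⟨V, hV, hyV, -⟩ := exists_isAffineOpen_mem_and_subset (x := y) (U := (⊤ : Y.Opens)) trivial
  letI aAK : Algebra (Y.presheaf.stalk y) (Y.residueField (π ξ)) := (Cyc.specMap y (π ξ) hspec).toAlgebra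
  haveI := Groth.Cycles.isFractionRing_stalk_residue e y hspec
  haveI hkd : Ring.KrullDimLE 1 (Y.presheaf.stalk y) := Ring.krullDimLE_iff.2 (by exact_mod_cast hy.le)
  obtain ⟨ϖ, hϖ⟩ := IsDiscreteValuationRing.exists_irreducible (Y.presheaf.stalk y)
  set g := algebraMap (Y.presheaf.stalk y) (Y.residueField (π ξ)) ϖ
  have hg : g ≠ 0 := (map_ne_zero_iff _ (IsFractionRing.injective _ _)).2 hϖ.ne_zero
  set f := π.residueFieldMap ξ g
  have hf : f ≠ 0 := (map_ne_zero_iff _ (π.residueFieldMap ξ).hom.injective).2 hg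
  obtain ⟨hfinite, hsum⟩ := Groth.Cycles.ordAt_normGen_eq_finsum π ξ rfl e V hV inferInstance
    (Groth.Flatmor4.finite_residueFieldMap π (π.quasiFiniteAt ξ)) y hyV hy hspec hx f hf
  refine ⟨hfinite, ?_⟩
  have hnorm : Cyc.normGen π ξ f = algebraMap (Y.presheaf.stalk y) _ (ϖ ^ π.residueDegree ξ) := by
    letI := (π.residueFieldMap ξ).hom.toAlgebra
    rw [map_pow]
    exact Algebra.norm_algebraMap g
  rw [hnorm, Groth.Cycles.ordAt_generic_eq_ordFrac e y hspec hkd,
    Groth.RefRank.ordFrac_algebraMap' (pow_ne_zero _ hϖ.ne_zero),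
    Ring.ord_pow (mem_nonZeroDivisors_of_ne_zero hϖ.ne_zero), Ring.ord_of_irreducible hϖ, nsmul_one,
    ENat.toNat_natCast] at hsum
  rw [hsum]
  refine finsum_congr ?_
  rintro ⟨x, rfl⟩
  haveI := hX x rfl
  letI := (π.stalkMap x).hom.toAlgebra
  haveI : IsLocalHom (algebraMap (Y.presheaf.stalk (π x)) (X.presheaf.stalk x)) :=
    inferInstanceAs (IsLocalHom (π.stalkMap x).hom)
  letI : Algebra (X.presheaf.stalk x) (X.residueField ξ) := (Cyc.specMap x ξ (hx x)).toAlgebra
  haveI := Groth.Cycles.isFractionRing_stalk_residue (rfl : ξ = genericPoint X) x (hx x)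
  have hfx : f = algebraMap (X.presheaf.stalk x) (X.residueField ξ) (π.stalkMap x ϖ) := by
    show π.residueFieldMap ξ (Y.residue (π ξ) (Y.presheaf.stalkSpecializes hspec ϖ)) =
      X.residue ξ (X.presheaf.stalkSpecializes (hx x) (π.stalkMap x ϖ))
    rw [← CommRingCat.comp_apply (Y.residue (π ξ)), Scheme.residue_residueFieldMap, CommRingCat.comp_apply]
    congr 1
    exact ConcreteCategory.congr_hom (π.stalkSpecializes_stalkMap ξ x (hx x)) ϖ
  have hne : π.stalkMap x ϖ ≠ 0 := fun h0 => hf (by rw [hfx, h0, map_zero])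
  show (_ : ℤ) * _ = _
  congr 1
  rw [Groth.Cycles.ordAt_generic_eq_ordFrac (rfl : ξ = genericPoint X) x (hx x)
      inferInstance,
    hfx, Groth.RefRank.ordFrac_algebraMap' hne, ramificationIdx_eq_ord hϖ hne]
  rfl

end Groth.Curves1.Hurwitz
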