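import Groth.Agent.Curves1.Hurwitz.Lattice

/-!
The Riemann–Hurwitz formula with the different for a finite separable morphism of normal curves.
-/

set_option autoImplicit false
set_option linter.style.haveILetI false
set_option linter.unusedSectionVars false
set_option synthInstance.maxHeartbeats 400000
set_option backward.isDefEq.respectTransparency.types false

universe u

open CategoryTheory Limits AlgebraicGeometry Opposite TopologicalSpace IsLocalRing Coh WithZero
open Groth.PicAux Groth.RefRank
open scoped Groth.CurveBridge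

namespace Groth.Curves1.Hurwitz

open Groth.CohTwo (stalkLin powMod)
open Groth.CurveBridge (constK InStalk placeAt Pt IsRegCurve)

theorem ffMap_id {Y : Scheme.{u}} [IsIntegral Y] (z : Y.functionField) : ffMap (𝟙 Y) z = z := by
  obtain ⟨U, hU, s, rfl⟩ := TopCat.Presheaf.exists_germ_eq Y.presheaf z
  haveI : Nonempty U := ⟨⟨_, hU⟩⟩
  exact ffMap_germ (𝟙 Y) U s

theorem ffMap_id_algebra {Y : Scheme.{u}} [IsIntegral Y] :
    (ffMap (𝟙 Y)).hom.toAlgebra = Algebra.id Y.functionField :=
  Algebra.algebra_ext _ _ ffMap_id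

theorem ffDeg_id {Y : Scheme.{u}} [IsIntegral Y] : ffDeg (𝟙 Y) = 1 := by
  show @Module.finrank Y.functionField Y.functionField _ _ (ffMap (𝟙 Y)).hom.toAlgebra.toModule = 1
  rw [ffMap_id_algebra]
  exact Module.finrank_self _

theorem isRegCurve_of_normal (k : Type u) [Field k] {X : Scheme.{u}} [X.Over (Spec (CommRingCat.of k))]
    [IsIntegral X] [IsProper (X ↘ Spec (CommRingCat.of k))] (hdim : topologicalKrullDim X = 1)
    (hn : Pi1.IsNormalScheme X) : IsRegCurve X := by
  haveI := Groth.DegMono.isLocallyNoetherian k (X := X)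
  refine ⟨hdim, fun x => ?_⟩
  by_cases hx : IsClosed ({x} : Set X)
  · have := Groth.RefRank.isDiscreteValuationRing_stalk hn
      (Groth.Cycles.ringKrullDim_stalk_closed (X ↘ Spec (CommRingCat.of k)) hdim x hx)
    infer_instance
  · obtain rfl : x = genericPoint X :=
      not_not.mp fun hne => hx ((Groth.CurveBridge.isClosed_singleton_iff X hdim x).mpr hne)
    exact inferInstanceAs (IsRegularLocalRing X.functionField)

theorem length_quot_span_singleton {A K : Type u} [CommRing A] [IsDomain A] [IsIntegrallyClosed A] [Field K]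
    [Algebra A K] [IsFractionRing A K] (r : Fin 1 → integralClosure A K) (a : A)
    (ha : (r 0 : K) = algebraMap A K a) :
    Module.length A (integralClosure A K ⧸ Submodule.span A (Set.range r)) = Ring.ord A a := by
  let eA : A ≃ₗ[A] integralClosure A K := LinearEquiv.ofBijective (Algebra.linearMap A (integralClosure A K))
    ⟨fun s t h => IsFractionRing.injective A K (congrArg Subtype.val h), fun z => by
      obtain ⟨t, ht⟩ := IsIntegrallyClosed.algebraMap_eq_of_integral z.2
      exact ⟨t, Subtype.ext ht⟩⟩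
  have hq : (Submodule.span A {a}).map (eA : A →ₗ[A] integralClosure A K) = Submodule.span A (Set.range r) := by
    rw [Submodule.map_span, Set.image_singleton, Set.range_unique]
    congr 2
    exact Subtype.ext ha.symm
  exact (Submodule.Quotient.equiv _ _ eA hq).length_eq.symm

theorem length_quot_id {Y : Scheme.{u}} [IsIntegral Y] (y : Y) [IsIntegrallyClosed (Y.presheaf.stalk y)]
    (a : Y.presheaf.stalk y) (w : Y.functionField) (ha : algebraMap (Y.presheaf.stalk y) Y.functionField a = w) :
    letI := stalkAlg (𝟙 Y) y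
    ∀ (r : Fin 1 → integralClosure (Y.presheaf.stalk y) Y.functionField), (r 0 : Y.functionField) = w →
      Module.length (Y.presheaf.stalk y)
        (integralClosure (Y.presheaf.stalk y) Y.functionField ⧸ Submodule.span (Y.presheaf.stalk y) (Set.range r)) =
          Ring.ord (Y.presheaf.stalk y) a := by
  have e : stalkAlg (𝟙 Y) y = (inferInstance : Algebra (Y.presheaf.stalk y) Y.functionField) :=
    Algebra.algebra_ext _ _ fun s => by
      show (ffMap (𝟙 Y)).hom (algebraMap (Y.presheaf.stalk y) Y.functionField s) = _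
      exact ffMap_id (algebraMap (Y.presheaf.stalk y) Y.functionField s)
  rw [e]
  intro r hr
  exact length_quot_span_singleton r a (hr.trans ha.symm)

variable (k : Type u) [Field k] {X Y : Scheme.{u}} [X.Over (Spec (CommRingCat.of k))]
  [Y.Over (Spec (CommRingCat.of k))] [IsIntegral X] [IsIntegral Y]
  [IsProper (X ↘ Spec (CommRingCat.of k))] [IsProper (Y ↘ Spec (CommRingCat.of k))]

variable (π : X ⟶ Y) [IsFinite π] [Surjective π]

set_option maxHeartbeats 4000000 in
/-- **Hurwitz formula with the different.** -/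
theorem exists_hurwitz (hπ : π ≫ (Y ↘ Spec (CommRingCat.of k)) = X ↘ Spec (CommRingCat.of k))
    (hdX : topologicalKrullDim X = 1) (hdY : topologicalKrullDim Y = 1)
    (hnX : Pi1.IsNormalScheme X) (hnY : Pi1.IsNormalScheme Y)
    (hsep : letI := (ffMap π).hom.toAlgebra; Algebra.IsSeparable Y.functionField X.functionField) :
    ∃ (d : X → ℕ) (T : Finset X), (∀ x ∈ T, IsClosed ({x} : Set X)) ∧
      (∀ x, IsClosed ({x} : Set X) → d x ≠ 0 → x ∈ T) ∧
      (∀ x, IsClosed ({x} : Set X) →
        letI := (π.stalkMap x).hom.toAlgebra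
        letI := (π.residueFieldMap x).hom.toAlgebra
        Ideal.ramificationIdx (maximalIdeal (X.presheaf.stalk x)) (Y.presheaf.stalk (π x)) - 1 ≤ d x ∧
        (d x = Ideal.ramificationIdx (maximalIdeal (X.presheaf.stalk x)) (Y.presheaf.stalk (π x)) - 1 ↔
          Algebra.IsSeparable (Y.residueField (π x)) (X.residueField x) ∧
            ((Ideal.ramificationIdx (maximalIdeal (X.presheaf.stalk x)) (Y.presheaf.stalk (π x)) : ℕ) :
              Y.residueField (π x)) ≠ 0)) ∧
      2 * (ffDeg π : ℤ) * Curv2.euler k Y (structureModule Y) - 2 * Curv2.euler k X (structureModule X) =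
        ∑ x ∈ T, ((X ↘ Spec (CommRingCat.of k)).residueDegree x : ℤ) * (d x : ℤ) := by
  classical
  letI := (ffMap π).hom.toAlgebra
  haveI := hsep
  set cX := X ↘ Spec (CommRingCat.of k) with hcX
  set cY := Y ↘ Spec (CommRingCat.of k) with hcY
  haveI : IsLocallyNoetherian X := Groth.DegMono.isLocallyNoetherian k (X := X)
  haveI : IsLocallyNoetherian Y := Groth.DegMono.isLocallyNoetherian k (X := Y)
  have hY := isRegCurve_of_normal k hdY hnY
  have hX := isRegCurve_of_normal k hdX hnX
  have hclY := Groth.CurveBridge.isClosed_singleton_iff Y hdY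
  have hclX := Groth.CurveBridge.isClosed_singleton_iff X hdX
  haveI : FiniteDimensional Y.functionField X.functionField := Module.finite_of_finrank_pos (ffDeg_pos π)
  set n := ffDeg π with hn
  have hfin : Module.finrank Y.functionField X.functionField = n := rfl
  let b : Module.Basis (Fin n) Y.functionField X.functionField := Module.finBasisOfFinrankEq _ _ hfin
  -- denominators of the basis
  have hden : ∀ y : Y, ∃ c : Y.functionField, c ≠ 0 ∧
      (∃ a, algebraMap (Y.presheaf.stalk y) Y.functionField a = c) ∧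
      ∀ i, (letI := stalkAlg π y; IsIntegral (Y.presheaf.stalk y) (algebraMap Y.functionField X.functionField c * b i)) := by
    intro y
    letI := stalkAlg π y
    haveI : IsScalarTower (Y.presheaf.stalk y) Y.functionField X.functionField :=
      IsScalarTower.of_algebraMap_eq fun _ => rfl
    obtain ⟨a, ha, hai⟩ := exists_integral_multiples (A := Y.presheaf.stalk y) (K := Y.functionField)
      (L := X.functionField) (Finset.univ.image b)
    refine ⟨algebraMap _ _ a, (map_ne_zero_iff _ (IsFractionRing.injective _ _)).2 ha, ⟨a, rfl⟩, fun i => ?_⟩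
    have h := hai (b i) (Finset.mem_image_of_mem _ (Finset.mem_univ i))
    rwa [Algebra.smul_def, IsScalarTower.algebraMap_apply (Y.presheaf.stalk y) Y.functionField X.functionField] at h
  choose c hc0 hcA hci using hden
  -- the open where the basis is integral
  obtain ⟨V₀, hV₀, hηV₀, -⟩ := exists_isAffineOpen_mem_and_subset (x := genericPoint Y) (U := (⊤ : Y.Opens)) trivial
  haveI : Nonempty V₀ := ⟨⟨_, hηV₀⟩⟩
  haveI := functionField_isFractionRing_of_isAffineOpen Y V₀ hV₀
  letI : Algebra Γ(Y, V₀) X.functionField :=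
    ((algebraMap Y.functionField X.functionField).comp (algebraMap Γ(Y, V₀) Y.functionField)).toAlgebra
  haveI : IsScalarTower Γ(Y, V₀) Y.functionField X.functionField := IsScalarTower.of_algebraMap_eq' rfl
  obtain ⟨g, hg0, hgi⟩ := exists_integral_multiples (A := Γ(Y, V₀)) (K := Y.functionField)
    (L := X.functionField) (Finset.univ.image b)
  let V : Y.Opens := Y.basicOpen g
  have hgη : genericPoint Y ∈ V := (Scheme.mem_basicOpen Y g _ hηV₀).2 (isUnit_iff_ne_zero.2 fun h0 =>
    hg0 (germ_injective_of_isIntegral Y (genericPoint Y) hηV₀ (h0.trans (map_zero _).symm)))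
  have hVint : ∀ y ∈ V, ∀ i, (letI := stalkAlg π y; IsIntegral (Y.presheaf.stalk y) (b i)) := by
    intro y hy i
    have hy₀ : y ∈ V₀ := Y.basicOpen_le g hy
    letI := stalkAlg π y
    letI := TopCat.Presheaf.algebra_section_stalk Y.presheaf (⟨y, hy₀⟩ : V₀)
    haveI : IsScalarTower Γ(Y, V₀) (Y.presheaf.stalk y) X.functionField := IsScalarTower.of_algebraMap_eq fun a => by
      show algebraMap Y.functionField X.functionField (algebraMap Γ(Y, V₀) Y.functionField a) =
        ffMap π (algebraMap (Y.presheaf.stalk y) Y.functionField (Y.presheaf.germ V₀ y hy₀ a))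
      rw [Scheme.algebraMap_germ_eq_germToFunctionField]
      rfl
    obtain ⟨u, hu⟩ := (Scheme.mem_basicOpen Y g y hy₀).1 hy
    have h := ((hgi (b i) (Finset.mem_image_of_mem _ (Finset.mem_univ i))).tower_top (A := Y.presheaf.stalk y))
    have h2 := (isIntegral_algebraMap (R := Y.presheaf.stalk y) (A := X.functionField) (x := (↑u⁻¹ : Y.presheaf.stalk y))).mul h
    rwa [Algebra.smul_def, IsScalarTower.algebraMap_apply Γ(Y, V₀) (Y.presheaf.stalk y) X.functionField,
      show algebraMap Γ(Y, V₀) (Y.presheaf.stalk y) g = ↑u from hu.symm, ← mul_assoc, ← map_mul,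
      Units.inv_mul, map_one, one_mul] at h2
  let c' : Y → Y.functionField := fun y => if y ∈ V then 1 else c y
  have hc'0 : ∀ y, c' y ≠ 0 := fun y => by
    by_cases h : y ∈ V
    · simp only [c', if_pos h]; exact one_ne_zero
    · simp only [c', if_neg h]; exact hc0 y
  have hc'A : ∀ y, ∃ a, algebraMap (Y.presheaf.stalk y) Y.functionField a = c' y := fun y => by
    by_cases h : y ∈ V
    · exact ⟨1, by simp [c', if_pos h]⟩
    · simp only [c', if_neg h]; exact hcA y
  have hc'i : ∀ y i, (letI := stalkAlg π y;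
      IsIntegral (Y.presheaf.stalk y) (algebraMap Y.functionField X.functionField (c' y) * b i)) := fun y i => by
    by_cases h : y ∈ V
    · simp only [c', if_pos h, map_one, one_mul]; exact hVint y h i
    · simp only [c', if_neg h]; exact hci y i
  let N : Pt Y → ℤ := fun y => (placeAt (k := k) hY y).ord (c' y.1)
  let P : Set (Pt Y) := {y | y.1 ∉ V}
  have hP : P.Finite := by
    have hfinc : {y : Y | y ∉ V}.Finite := by
      have : NoetherianSpace Y.toTopCat := Groth.DegMono.noetherianSpace k (X := Y)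
      have : QuasiSober Y.toTopCat := inferInstanceAs (QuasiSober Y)
      refine (Groth.EulerDeg.finite_and_isClosed_of_closed_points (X := Y.toTopCat) (U := Set.univ)
        isOpen_univ (Set.subset_univ _) (fun x hx => ?_) fun z hz => ?_).1
      · exact V.isOpen.isClosed_compl.closure_eq.subset hx.1
      · exact (hclY z).2 fun h => hz (h ▸ hgη)
    exact hfinc.preimage Subtype.val_injective.injOn
  let D : FunFld.Divisor k Y.functionField := ∑ y ∈ hP.toFinset, Finsupp.single (placeAt (k := k) hY y) (-N y)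
  have hD : ∀ y : Pt Y, D (placeAt (k := k) hY y) = -N y := by
    intro y
    simp only [D, Finsupp.finsetSum_apply, Finsupp.single_apply]
    by_cases hy : y ∈ hP.toFinset
    · rw [Finset.sum_eq_single y, if_pos rfl]
      · intro z _ hz
        rw [if_neg fun h => hz (Groth.CurveBridge.placeAt_injective hY h)]
      · exact fun h => absurd hy h
    · rw [Finset.sum_eq_zero fun z hz => if_neg fun h => hy (by
        rw [← Groth.CurveBridge.placeAt_injective hY h]; exact hz)]
      rw [Set.Finite.mem_toFinset] at hy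
      have hyV : y.1 ∈ V := not_not.1 hy
      simp [N, c', if_pos hyV]
  obtain ⟨M, φ, U₀, hU₀, e₀, hM, -, hφm, hφD⟩ := Groth.CurveBridge.exists_invertible_embedding (k := k) hY D
  haveI := hφm
  have hstalk : ∀ (y : Y) z, InStalk φ y z → ∃ a, algebraMap (Y.presheaf.stalk y) Y.functionField a * c' y = z := by
    intro y z hz
    by_cases hy : IsClosed ({y} : Set Y)
    · have h := (hφD ⟨y, hy⟩ z).1 hz
      rw [hD] at h
      by_cases hz0 : z = 0
      · exact ⟨0, by rw [map_zero, zero_mul, hz0]⟩
      have hle : (placeAt (k := k) hY ⟨y, hy⟩).1 (z / c' y) ≤ 1 := by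
        rw [Groth.FunFld1.val_le_exp_iff _ hz0] at h
        have h2 := Groth.FunFld1.ord_mul (placeAt (k := k) hY ⟨y, hy⟩) (div_ne_zero hz0 (hc'0 y)) (hc'0 y)
        rw [div_mul_cancel₀ _ (hc'0 y)] at h2
        rw [Groth.FunFld1.val_le_one_iff]
        simp only [N] at h
        linarith
      obtain ⟨a, ha⟩ := (Groth.CurveBridge.placeAt_le_one_iff hY ⟨y, hy⟩ _).1 hle
      exact ⟨a, by rw [ha, div_mul_cancel₀ _ (hc'0 y)]⟩
    · obtain rfl : y = genericPoint Y := not_not.1 fun h => hy ((hclY y).2 h)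
      obtain ⟨a, ha⟩ := Groth.CurveBridge.range_toFF_generic (X := Y) (genericPoint Y) rfl (z / c' (genericPoint Y))
      exact ⟨a, by rw [ha, div_mul_cancel₀ _ (hc'0 _)]⟩
  -- the two lattices
  obtain ⟨Φ, hΦm, hΦg, hΦy⟩ := exists_lattice π hnX φ hM (fun i => b i) b.linearIndependent (fun i y z hz => by
    letI := stalkAlg π y
    obtain ⟨a, rfl⟩ := hstalk y z hz
    rw [show b i * ffMap π (algebraMap (Y.presheaf.stalk y) Y.functionField a * c' y) =
      algebraMap (Y.presheaf.stalk y) X.functionField a * (algebraMap Y.functionField X.functionField (c' y) * b i) by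
        rw [map_mul, mul_left_comm]
        exact congrArg _ (mul_comm _ _)]
    exact isIntegral_algebraMap.mul (hc'i y i))
  obtain ⟨Φ₁, hΦ₁m, hΦ₁g, hΦ₁y⟩ := exists_lattice (𝟙 Y) hnY φ hM (fun _ : Fin 1 => (1 : Y.functionField))
    (by
      rw [ffMap_id_algebra]
      exact linearIndependent_unique_iff.2 one_ne_zero)
    (fun i y z hz => by
      letI := stalkAlg (𝟙 Y) y
      obtain ⟨a, rfl⟩ := hstalk y z hz
      obtain ⟨a', ha'⟩ := hc'A y
      rw [one_mul, ← ha', ← map_mul]
      exact isIntegral_algebraMap (x := a * a'))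
  haveI := hΦm
  haveI := hΦ₁m
  choose w r hw0 hwst hrw heq using hΦy
  choose w₁ r₁ hw₁0 hw₁st hr₁ heq₁ using hΦ₁y
  have hyd : ∀ y : Y, IsClosed ({y} : Set Y) → ringKrullDim (Y.presheaf.stalk y) = 1 := fun y hy =>
    Groth.Cycles.ringKrullDim_stalk_closed cY hdY y hy
  have hwN : ∀ (y : Y) (hy : IsClosed ({y} : Set Y)) (w' : Y.functionField), w' ≠ 0 →
      (∀ z, InStalk φ y z ↔ ∃ a : Y.presheaf.stalk y, algebraMap (Y.presheaf.stalk y) Y.functionField a * w' = z) →
      ordK y w' = N ⟨y, hy⟩ := by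
    intro y hy w' hw' hst
    let Q := placeAt (k := k) hY ⟨y, hy⟩
    rw [show ordK y w' = Q.ord w' from Groth.Cycles.ordFrac_eq_placeOrd (k := k) hY ⟨y, hy⟩ w']
    have h1 := (hφD ⟨y, hy⟩ w').1 ((hst w').2 ⟨1, by rw [map_one, one_mul]⟩)
    rw [hD, Groth.FunFld1.val_le_exp_iff _ hw'] at h1
    have h2 : InStalk φ y (c' y) := (hφD ⟨y, hy⟩ (c' y)).2 (by
      rw [hD, Groth.FunFld1.val_le_exp_iff _ (hc'0 y)])
    obtain ⟨a, ha⟩ := (hst _).1 h2
    have ha0 : algebraMap (Y.presheaf.stalk y) Y.functionField a ≠ 0 := fun h0 => hc'0 y (by rw [← ha, h0, zero_mul])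
    have h3 : 0 ≤ Q.ord (algebraMap (Y.presheaf.stalk y) Y.functionField a) :=
      (Groth.FunFld1.val_le_one_iff Q _).1 ((Groth.CurveBridge.placeAt_le_one_iff hY ⟨y, hy⟩ _).2 ⟨a, rfl⟩)
    have h4 : Q.ord (c' y) = Q.ord (algebraMap (Y.presheaf.stalk y) Y.functionField a) + Q.ord w' := by
      rw [← ha]; exact Groth.FunFld1.ord_mul Q ha0 hw'
    show Q.ord w' = Q.ord (c' y)
    linarith
  -- local data of the different
  choose hfib dY hdY' hlY using fun (y : Y) (hy : IsClosed ({y} : Set Y)) =>
    exists_local_data π hnX hnY hdX.le hsep y (hyd y hy)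
  choose ℓ hℓ hℓdisc using fun (y : Y) (hy : IsClosed ({y} : Set Y)) => hlY y hy hfin (r y) (by
    convert b.linearIndependent.units_smul fun _ => Units.mk0 (w y) (hw0 y) using 1
    funext i
    show _ = w y • b i
    rw [hrw, Algebra.smul_def, mul_comm]
    rfl)
  let L : Y → ℕ := fun y => if hy : IsClosed ({y} : Set Y) then ℓ y hy else 0
  obtain ⟨S, hSc, hS, hSsum⟩ := euler_eq_add_sum k hdY.le
    (Groth.CohTwo.isCoh_powMod (Groth.EulerDeg.isCoh_of_isInvertible hM) n)
    (Groth.Cycles.isCoh_push_of_isFinite π Groth.QCohMod.isCoh_unit) Φ (hΦg rfl) L (fun y hy => by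
      rw [(heq y).some.length_eq, hℓ y hy]
      simp [L, dif_pos hy])
  let L₁ : Y → ℕ := fun y => if hy : IsClosed ({y} : Set Y) then (N ⟨y, hy⟩).toNat else 0
  have hN0 : ∀ y (hy : IsClosed ({y} : Set Y)), 0 ≤ N ⟨y, hy⟩ := fun y hy => by
    show 0 ≤ (placeAt (k := k) hY ⟨y, hy⟩).ord (c' y)
    exact (Groth.FunFld1.val_le_one_iff _ _).1 ((Groth.CurveBridge.placeAt_le_one_iff hY ⟨y, hy⟩ _).2 (hc'A y))
  obtain ⟨S₁, hS₁c, hS₁, hS₁sum⟩ := euler_eq_add_sum k hdY.le
    (Groth.CohTwo.isCoh_powMod (Groth.EulerDeg.isCoh_of_isInvertible hM) 1)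
    (Groth.Cycles.isCoh_push_of_isFinite (𝟙 Y) Groth.QCohMod.isCoh_unit) Φ₁ (hΦ₁g ffDeg_id.symm) L₁
    (fun y hy => by
      rw [(heq₁ y).some.length_eq]
      haveI := Groth.RefRank.isDiscreteValuationRing_stalk hnY (hyd y hy)
      obtain ⟨a, ha⟩ : ∃ a, algebraMap (Y.presheaf.stalk y) Y.functionField a = w₁ y := by
        obtain ⟨a, ha⟩ := hstalk y (w₁ y) ((hw₁st y _).2 ⟨1, by rw [map_one, one_mul]⟩)
        obtain ⟨a', ha'⟩ := hc'A y
        exact ⟨a * a', by rw [map_mul, ha', ha]⟩
      have ha0 : a ≠ 0 := fun h0 => hw₁0 y (by rw [← ha, h0, map_zero])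
      haveI := (hnY y).2
      rw [length_quot_id y a (w₁ y) ha (r₁ y) (by rw [hr₁, one_mul, ffMap_id])]
      have hord : ((Ring.ord (Y.presheaf.stalk y) a).toNat : ℤ) = N ⟨y, hy⟩ := by
        rw [← hwN y hy (w₁ y) (hw₁0 y) (hw₁st y), ← ha]
        exact (Groth.RefRank.ordFrac_algebraMap' (K := Y.functionField) ha0).symm
      simp only [L₁, dif_pos hy]
      rw [← hord, Int.toNat_natCast, ENat.natCast_toNat (Ring.ord_ne_top (mem_nonZeroDivisors_of_ne_zero ha0))])
  have hdisc0 : Algebra.discr Y.functionField (⇑b) ≠ 0 := Algebra.discr_not_zero_of_basis _ _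
  obtain ⟨S₂, hS₂c, hS₂, hS₂sum⟩ := Groth.Cycles.exists_finset_degree_zero (K := k) hY
    (Algebra.discr Y.functionField (⇑b))
  let d : X → ℕ := fun x => if hy : IsClosed ({π x} : Set Y) then dY (π x) hy x else 0
  have hclosed : ∀ x : X, IsClosed ({x} : Set X) ↔ IsClosed ({π x} : Set Y) := by
    intro x
    refine ⟨fun hx => ?_, fun hx => ?_⟩
    · simpa [Set.image_singleton] using π.isClosedMap _ hx
    · refine (hclX x).2 fun h => (hclY _).1 hx ?_
      subst h
      obtain ⟨x', hx'⟩ := π.surjective (genericPoint Y)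
      exact (((genericPoint_spec Y).specializes (S := Set.univ) trivial).antisymm
        (hx' ▸ ((genericPoint_spec X).specializes (S := Set.univ) trivial).map π.continuous)).eq.symm
  have hlocal : ∀ x, IsClosed ({x} : Set X) →
      letI := (π.stalkMap x).hom.toAlgebra
      letI := (π.residueFieldMap x).hom.toAlgebra
      Ideal.ramificationIdx (maximalIdeal (X.presheaf.stalk x)) (Y.presheaf.stalk (π x)) - 1 ≤ d x ∧
      (d x = Ideal.ramificationIdx (maximalIdeal (X.presheaf.stalk x)) (Y.presheaf.stalk (π x)) - 1 ↔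
        Algebra.IsSeparable (Y.residueField (π x)) (X.residueField x) ∧
          ((Ideal.ramificationIdx (maximalIdeal (X.presheaf.stalk x)) (Y.presheaf.stalk (π x)) : ℕ) :
            Y.residueField (π x)) ≠ 0) := by
    intro x hx
    rw [show d x = dY (π x) ((hclosed x).1 hx) x from dif_pos _]
    exact hdY' (π x) ((hclosed x).1 hx) x rfl
  let Dsum : Y → ℤ := fun y => ∑ᶠ x : {x : X // π x = y}, (π.residueDegree x.1 : ℤ) * (d x.1 : ℤ)
  have hkey : ∀ (y : Y) (hy : IsClosed ({y} : Set Y)),
      2 * (L y : ℤ) = 2 * (n : ℤ) * (L₁ y : ℤ) + ordK y (Algebra.discr Y.functionField (⇑b)) - Dsum y := by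
    intro y hy
    have hd : ∀ x : {x : X // π x = y}, d x.1 = dY y hy x.1 := by
      rintro ⟨x, rfl⟩
      exact dif_pos hy
    have h := hℓdisc y hy
    have hdim : ringKrullDim (Y.presheaf.stalk y) ≤ 1 := (hyd y hy).le
    have hmat : (fun i => (r y i : X.functionField)) =
        Matrix.vecMul (⇑b) ((Matrix.diagonal fun _ : Fin n => w y).map (algebraMap Y.functionField X.functionField)) := by
      funext i
      rw [Matrix.diagonal_map (map_zero _), Matrix.vecMul_diagonal, hrw]
      rfl
    rw [hmat, Algebra.discr_of_matrix_vecMul, Matrix.det_diagonal, Finset.prod_const, Finset.card_univ,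
      Fintype.card_fin, ← pow_mul] at h
    have hpow : ∀ m : ℕ, ordK y (w y ^ m) = m * ordK y (w y) := by
      intro m
      induction m with
      | zero =>
        rw [pow_zero, Nat.cast_zero, zero_mul, show ordK y (1 : Y.functionField) = _ from
          Groth.Cycles.ordFrac_eq_placeOrd (k := k) hY ⟨y, hy⟩ 1]
        exact Groth.FunFld1.ord_one _
      | succ m ih =>
        rw [pow_succ, Groth.RefRank.ordK_mul hdim (pow_ne_zero _ (hw0 y)) (hw0 y), ih]
        push_cast
        ring
    have h' : ordK y (w y ^ (n * 2) * Algebra.discr Y.functionField (⇑b)) = _ := h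
    rw [Groth.RefRank.ordK_mul hdim (pow_ne_zero _ (hw0 y)) hdisc0, hpow,
      hwN y hy (w y) (hw0 y) (hwst y)] at h'
    have hD' : Dsum y = ∑ᶠ x : {x : X // π x = y}, (π.residueDegree x.1 : ℤ) * (dY y hy x.1 : ℤ) :=
      finsum_congr fun x => by rw [hd x]
    rw [hD']
    simp only [L, L₁, dif_pos hy, Int.toNat_of_nonneg (hN0 y hy)]
    push_cast at h'
    linarith
  have hpos : ∀ x, IsClosed ({x} : Set X) → (0 : ℤ) < π.residueDegree x := by
    intro x hx
    have h : 0 < cX.residueDegree x := by
      have := Groth.FunFld1.IsFF.deg_pos (Groth.CurveBridge.isFF k X hdX) (placeAt (k := k) hX ⟨x, hx⟩)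
      rwa [Groth.Cycles.deg_placeAt' hX ⟨x, hx⟩] at this
    rw [show cX = π ≫ cY from hπ.symm, Groth.Cycles.residueDegree_comp] at h
    exact_mod_cast Nat.pos_of_mul_pos_left h
  let TY := S ∪ S₁ ∪ S₂
  have hTYc : ∀ y ∈ TY, IsClosed ({y} : Set Y) := fun y hy => by
    rcases Finset.mem_union.1 hy with h | h
    · rcases Finset.mem_union.1 h with h | h
      · exact hSc y h
      · exact hS₁c y h
    · exact hS₂c y h
  have hTYfib : {x : X | π x ∈ TY}.Finite := by
    rw [show {x : X | π x ∈ TY} = ⋃ y ∈ TY, π ⁻¹' {y} by ext x; simp]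
    exact TY.finite_toSet.biUnion fun y hy => by
      haveI := hfib y (hTYc y hy)
      exact (Set.finite_coe_iff (s := {x : X | π x = y})).1 (hfib y (hTYc y hy))
  let T := hTYfib.toFinset
  have hTc : ∀ x ∈ T, IsClosed ({x} : Set X) := fun x hx => (hclosed x).2 (hTYc _ (hTYfib.mem_toFinset.1 hx))
  have hTd : ∀ x, IsClosed ({x} : Set X) → d x ≠ 0 → x ∈ T := by
    intro x hx hdx
    rw [Set.Finite.mem_toFinset]
    by_contra hout
    have hy := (hclosed x).1 hx
    have hout' : π x ∉ TY := hout
    have h0 : L (π x) = 0 := by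
      by_contra h; exact hout' (Finset.mem_union_left _ (Finset.mem_union_left _ (hS _ hy h)))
    have h1 : L₁ (π x) = 0 := by
      by_contra h; exact hout' (Finset.mem_union_left _ (Finset.mem_union_right _ (hS₁ _ hy h)))
    have h2 : ordK (π x) (Algebra.discr Y.functionField (⇑b)) = 0 := by
      by_contra h; exact hout' (Finset.mem_union_right _ (hS₂ _ hy h))
    have hk := hkey (π x) hy
    rw [h0, h1, h2] at hk
    haveI := hfib (π x) hy
    letI := Fintype.ofFinite {x' : X // π x' = π x}
    have hk' : Dsum (π x) = 0 := by push_cast at hk; linarith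
    rw [show Dsum (π x) = _ from finsum_eq_sum_of_fintype _,
      Finset.sum_eq_zero_iff_of_nonneg (fun _ _ => by positivity)] at hk'
    have := hk' ⟨x, rfl⟩ (Finset.mem_univ _)
    rcases mul_eq_zero.1 this with h | h
    · exact (hpos x hx).ne' h
    · exact hdx (by exact_mod_cast h)
  refine ⟨d, T, hTc, hTd, hlocal, ?_⟩
  have hX0 : Curv2.euler k Y ((Scheme.Modules.pushforward π).obj (structureModule X)) =
      Curv2.euler k X (structureModule X) :=
    Groth.Curves1.RR.euler_push_affine k π hπ _ Groth.QCohMod.isCoh_unit.1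
  have hY0 : Curv2.euler k Y ((Scheme.Modules.pushforward (𝟙 Y)).obj (structureModule Y)) =
      Curv2.euler k Y (structureModule Y) :=
    Groth.Curves1.RR.euler_push_affine k (𝟙 Y) (Category.id_comp _) _ Groth.QCohMod.isCoh_unit.1
  have hMc := Groth.EulerDeg.isCoh_of_isInvertible hM
  rw [hX0, euler_powMod k hMc] at hSsum
  rw [hY0, euler_powMod k hMc] at hS₁sum
  have ext1 : ∑ y ∈ S, (cY.residueDegree y : ℤ) * (L y : ℤ) = ∑ y ∈ TY, (cY.residueDegree y : ℤ) * (L y : ℤ) :=
    Finset.sum_subset (fun y hy => Finset.mem_union_left _ (Finset.mem_union_left _ hy)) fun y hy hy' => by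
      have : L y = 0 := by by_contra h; exact hy' (hS y (hTYc y hy) h)
      rw [this, Nat.cast_zero, mul_zero]
  have ext2 : ∑ y ∈ S₁, (cY.residueDegree y : ℤ) * (L₁ y : ℤ) = ∑ y ∈ TY, (cY.residueDegree y : ℤ) * (L₁ y : ℤ) :=
    Finset.sum_subset (fun y hy => Finset.mem_union_left _ (Finset.mem_union_right _ hy)) fun y hy hy' => by
      have : L₁ y = 0 := by by_contra h; exact hy' (hS₁ y (hTYc y hy) h)
      rw [this, Nat.cast_zero, mul_zero]
  have ext3 : ∑ y ∈ TY, (cY.residueDegree y : ℤ) * ordK y (Algebra.discr Y.functionField (⇑b)) = 0 := by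
    rw [← hS₂sum]
    exact (Finset.sum_subset Finset.subset_union_right fun y hy hy' => by
      have : ordK y (Algebra.discr Y.functionField (⇑b)) = 0 := by
        by_contra h; exact hy' (hS₂ y (hTYc y hy) h)
      rw [this, mul_zero]).symm
  have ext4 : ∑ x ∈ T, (cX.residueDegree x : ℤ) * (d x : ℤ) = ∑ y ∈ TY, (cY.residueDegree y : ℤ) * Dsum y := by
    rw [← Finset.sum_fiberwise_of_maps_to (g := fun x => π x) (t := TY) fun x hx => hTYfib.mem_toFinset.1 hx]
    refine Finset.sum_congr rfl fun y hy => ?_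
    haveI := hfib y (hTYc y hy)
    letI := Fintype.ofFinite {x : X // π x = y}
    rw [show Dsum y = _ from finsum_eq_sum_of_fintype _, Finset.mul_sum]
    refine Eq.trans (Finset.sum_subtype (F := inferInstance) (p := fun x : X => π x = y) _ (fun x => ?_) _) ?_
    · rw [Finset.mem_filter, Set.Finite.mem_toFinset]
      exact ⟨fun h => h.2, fun h => ⟨by show π x ∈ TY; rw [h]; exact hy, h⟩⟩
    · refine Finset.sum_congr rfl fun x _ => ?_
      rw [show cX.residueDegree x.1 = (π ≫ cY).residueDegree x.1 by rw [hcY, hπ],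
        Groth.Cycles.residueDegree_comp, x.2]
      push_cast
      ring
  have hsum : ∑ y ∈ TY, (cY.residueDegree y : ℤ) * (2 * (L y : ℤ)) =
      ∑ y ∈ TY, (cY.residueDegree y : ℤ) *
        (2 * (n : ℤ) * (L₁ y : ℤ) + ordK y (Algebra.discr Y.functionField (⇑b)) - Dsum y) :=
    Finset.sum_congr rfl fun y hy => by rw [hkey y (hTYc y hy)]
  simp only [mul_add, mul_sub, Finset.sum_add_distrib, Finset.sum_sub_distrib, mul_left_comm _ (2 : ℤ),
    mul_left_comm _ (2 * (n : ℤ)), ← Finset.mul_sum] at hsum
  rw [ext3, ← ext4, ← ext1, ← ext2] at hsum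
  push_cast at hSsum hS₁sum
  linear_combination (2 * (n : ℤ)) * hS₁sum - 2 * hSsum - hsum

end Groth.Curves1.Hurwitz
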