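import Groth.Agent.Curves1.Hurwitz.Push

/-!
The lattice `M^n ⟶ π_* O_X` given by a basis of the function field.
-/

set_option autoImplicit false
set_option linter.style.haveILetI false
set_option linter.unusedSectionVars false
set_option synthInstance.maxHeartbeats 400000
set_option backward.isDefEq.respectTransparency.types false

universe u

open CategoryTheory Limits AlgebraicGeometry Opposite TopologicalSpace IsLocalRing Coh WithZero
open Groth.PicAux Groth.RefRank

namespace Groth.Curves1.Hurwitz

open Groth.CohTwo (stalkLin stalkLin_germ stalkLin_comp powMod powStalk)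
open Groth.CurveBridge (constK kv kv_smul kv_res kv_gen_ne_zero InStalk generic_mem inStalk_iff_of_gen)

variable {X Y : Scheme.{u}} [IsIntegral X] [IsIntegral Y] (π : X ⟶ Y) [IsFinite π] [Surjective π]

/-- A generator of an embedded invertible module near a point, with its value. -/
theorem exists_gen_value {M : Y.Modules} (φ : M ⟶ constK Y) [Mono φ] (hM : PicF.IsInvertible M) (y : Y) :
    ∃ (U : Y.Opens) (hU : y ∈ U) (e : Γ(M, U)) (w : Y.functionField),
      w ≠ 0 ∧ kv (generic_mem U hU) (φ.app U e) = w ∧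
      (∀ z, InStalk φ y z ↔ ∃ a : Y.presheaf.stalk y, algebraMap (Y.presheaf.stalk y) Y.functionField a * w = z) ∧
      ∀ t : M.presheaf.stalk y, ∃ a : Y.presheaf.stalk y, t = a • M.presheaf.germ U y hU e := by
  obtain ⟨U, e, hU, he⟩ := (isInvertible_iff_exists_gen M).1 hM y
  refine ⟨U, hU, e, _, kv_gen_ne_zero φ hU he, rfl, inStalk_iff_of_gen φ hU he, fun t => ?_⟩
  obtain ⟨W, hW, m, rfl⟩ := Groth.QCohMod.exists_germ M y t
  obtain ⟨c, hc⟩ := he.exists_coeff (inf_le_right : W ⊓ U ≤ U) (res M (inf_le_left : W ⊓ U ≤ W) m)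
  refine ⟨Y.presheaf.germ (W ⊓ U) y ⟨hW, hU⟩ c, ?_⟩
  refine (Groth.QCohMod.germ_res M (inf_le_left : W ⊓ U ≤ W) y ⟨hW, hU⟩ m).symm.trans ?_
  refine (congrArg (Groth.QCohMod.germ M y (U := W ⊓ U) ⟨hW, hU⟩) hc).trans ?_
  refine (Groth.QCohMod.germ_smul M y (U := W ⊓ U) ⟨hW, hU⟩ c _).trans ?_
  exact congrArg _ (Groth.QCohMod.germ_res M (inf_le_right : W ⊓ U ≤ U) y ⟨hW, hU⟩ e)

/-- The value of the germ of a product map. -/
theorem stalkLin_desc {M E : Y.Modules} {n : ℕ} (ψ : Fin n → (M ⟶ E)) (y : Y)
    (t : (powMod M n).presheaf.stalk y) :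
    stalkLin (Sigma.desc ψ) y t = ∑ i, stalkLin (ψ i) y (powStalk M n y t i) := by
  conv_lhs => rw [← (powStalk M n y).symm_apply_apply t]
  show stalkLin (Sigma.desc ψ) y (∑ i, stalkLin (Sigma.ι (fun _ : Fin n => M) i) y (powStalk M n y t i)) = _
  rw [map_sum]
  exact Finset.sum_congr rfl fun i _ => by rw [← stalkLin_comp, Sigma.ι_desc]

/-- The lattice of a family of rational functions in `π_* O_X`. -/
theorem exists_lattice (hX : Pi1.IsNormalScheme X) {n : ℕ} {M : Y.Modules} (φ : M ⟶ constK Y) [Mono φ]
    (hM : PicF.IsInvertible M) (b : Fin n → X.functionField)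
    (hb : letI := (ffMap π).hom.toAlgebra; LinearIndependent Y.functionField b)
    (hint : ∀ (i : Fin n) (y : Y) z, InStalk φ y z →
      (letI := stalkAlg π y; IsIntegral (Y.presheaf.stalk y) (b i * ffMap π z))) :
    ∃ Φ : powMod M n ⟶ (Scheme.Modules.pushforward π).obj (structureModule X), Mono Φ ∧
      (n = ffDeg π → Function.Surjective (stalkLin Φ (genericPoint Y))) ∧
      ∀ y : Y,
        letI := stalkAlg π y
        ∃ (w : Y.functionField) (r : Fin n → integralClosure (Y.presheaf.stalk y) X.functionField),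
          w ≠ 0 ∧
          (∀ z, InStalk φ y z ↔
            ∃ a : Y.presheaf.stalk y, algebraMap (Y.presheaf.stalk y) Y.functionField a * w = z) ∧
          (∀ i, (r i : X.functionField) = b i * ffMap π w) ∧
          Nonempty ((((Scheme.Modules.pushforward π).obj (structureModule X)).presheaf.stalk y ⧸
              (stalkLin Φ y).range) ≃ₗ[Y.presheaf.stalk y]
            (integralClosure (Y.presheaf.stalk y) X.functionField ⧸
              Submodule.span (Y.presheaf.stalk y) (Set.range r))) := by
  classical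
  letI := (ffMap π).hom.toAlgebra
  let E := (Scheme.Modules.pushforward π).obj (structureModule X)
  choose ψ hψ using fun i => exists_mulHom π hX φ (b i) (hint i)
  let Φ : powMod M n ⟶ E := Sigma.desc ψ
  choose U hU e w hw0 hwv hwst hgen using fun y => exists_gen_value φ hM y
  choose ε hε hεi hεs hεimg using fun y => exists_germVal π y
  have hval : ∀ (i : Fin n) (y : Y), ε y (stalkLin (ψ i) y (M.presheaf.germ (U y) y (hU y) (e y))) =
      b i * ffMap π (w y) := by
    intro i y
    rw [stalkLin_germ, ← hwv y]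
    exact (hε y (U y) (hU y) (show Γ(X, π ⁻¹ᵁ U y) from (ψ i).app (U y) (e y))).trans
      (hψ i (U y) (generic_mem _ (hU y)) (e y))
  have hsmul : ∀ (y : Y) (a : Y.presheaf.stalk y) (t : E.presheaf.stalk y),
      ε y (a • t) = algebraMap Y.functionField X.functionField (algebraMap (Y.presheaf.stalk y) Y.functionField a) * ε y t :=
    hεs
  have hΦ : ∀ (y : Y) (a : Fin n → Y.presheaf.stalk y),
      ε y (stalkLin Φ y ((powStalk M n y).symm fun i => a i • M.presheaf.germ (U y) y (hU y) (e y))) =
        ∑ i, (algebraMap (Y.presheaf.stalk y) Y.functionField (a i) * w y) • b i := by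
    intro y a
    rw [stalkLin_desc, map_sum]
    refine Finset.sum_congr rfl fun i _ => ?_
    rw [LinearEquiv.apply_symm_apply, LinearMap.map_smul, hsmul, hval, Algebra.smul_def, map_mul]
    show _ * (b i * algebraMap Y.functionField X.functionField (w y)) = _
    ring
  have hrep : ∀ (y : Y) (t : (powMod M n).presheaf.stalk y), ∃ a : Fin n → Y.presheaf.stalk y,
      t = (powStalk M n y).symm fun i => a i • M.presheaf.germ (U y) y (hU y) (e y) := by
    intro y t
    choose a ha using fun i => hgen y (powStalk M n y t i)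
    exact ⟨a, by rw [← (powStalk M n y).symm_apply_apply t]; exact congrArg _ (funext ha)⟩
  have hmono : Mono Φ := by
    rw [Groth.QCohMod.mono_iff_stalk]
    intro y
    show Function.Injective (stalkLin Φ y)
    refine (injective_iff_map_eq_zero _).2 fun t ht => ?_
    obtain ⟨a, rfl⟩ := hrep y t
    have h := hΦ y a
    rw [ht, map_zero] at h
    have h2 := Fintype.linearIndependent_iff.1 hb _ h.symm
    refine (LinearEquiv.map_eq_zero_iff _).2 (funext fun i => ?_)
    have h3 : a i = 0 := IsFractionRing.injective (Y.presheaf.stalk y) Y.functionField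
      (((mul_eq_zero.1 (h2 i)).resolve_right (hw0 y)).trans (map_zero _).symm)
    rw [h3, zero_smul]
    rfl
  refine ⟨Φ, hmono, fun hn v => ?_, fun y => ?_⟩
  · haveI : FiniteDimensional Y.functionField X.functionField := Module.finite_of_finrank_pos (ffDeg_pos π)
    have hspan : Submodule.span Y.functionField (Set.range b) = ⊤ :=
      hb.span_eq_top_of_card_eq_finrank' (by rw [Fintype.card_fin, hn]; rfl)
    obtain ⟨c, hc⟩ := (Submodule.mem_span_range_iff_exists_fun Y.functionField).1
      (hspan.ge (Submodule.mem_top (x := ε (genericPoint Y) v)))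
    choose a ha using fun i => Groth.CurveBridge.range_toFF_generic (X := Y) (genericPoint Y) rfl
      (c i / w (genericPoint Y))
    refine ⟨_, hεi (genericPoint Y) ((hΦ (genericPoint Y) a).trans (Eq.trans ?_ hc))⟩
    refine Finset.sum_congr rfl fun i _ => ?_
    rw [ha i, div_mul_cancel₀ _ (hw0 _)]
  · letI := stalkAlg π y
    let B := integralClosure (Y.presheaf.stalk y) X.functionField
    let r : Fin n → B := fun i => ⟨b i * ffMap π (w y), hint i y _ ((hwst y _).2 ⟨1, by rw [map_one, one_mul]⟩)⟩
    let ι : E.presheaf.stalk y →ₗ[Y.presheaf.stalk y] B :=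
      { toFun := fun t => ⟨ε y t, (hεimg y hX _).2 ⟨t, rfl⟩⟩
        map_add' := fun _ _ => Subtype.ext (map_add (ε y) _ _)
        map_smul' := fun a t => Subtype.ext ((hεs y a t).trans (Algebra.smul_def _ _).symm) }
    let eB : E.presheaf.stalk y ≃ₗ[Y.presheaf.stalk y] B := LinearEquiv.ofBijective ι
      ⟨fun s t h => hεi y (congrArg Subtype.val h), fun z => by
        obtain ⟨t, ht⟩ := (hεimg y hX _).1 z.2
        exact ⟨t, Subtype.ext ht⟩⟩
    refine ⟨w y, r, hw0 y, hwst y, fun _ => rfl, ⟨Submodule.Quotient.equiv _ _ eB ?_⟩⟩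
    have hmain : ∀ a : Fin n → Y.presheaf.stalk y,
        eB (stalkLin Φ y ((powStalk M n y).symm fun i => a i • M.presheaf.germ (U y) y (hU y) (e y))) =
          ∑ i, a i • r i := by
      intro a
      refine Subtype.ext ((hΦ y a).trans ?_)
      rw [AddSubmonoidClass.coe_finsetSum]
      refine Finset.sum_congr rfl fun i _ => ?_
      show _ = a i • (b i * ffMap π (w y))
      rw [Algebra.smul_def, Algebra.smul_def, map_mul]
      show _ = ffMap π (algebraMap (Y.presheaf.stalk y) Y.functionField (a i)) * _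
      exact (mul_assoc _ _ _).trans (congrArg _ (mul_comm _ _))
    ext z
    rw [Submodule.mem_span_range_iff_exists_fun, Submodule.mem_map]
    constructor
    · rintro ⟨_, ⟨t, rfl⟩, rfl⟩
      obtain ⟨a, rfl⟩ := hrep y t
      exact ⟨a, (hmain a).symm⟩
    · rintro ⟨a, rfl⟩
      exact ⟨_, ⟨_, rfl⟩, hmain a⟩

end Groth.Curves1.Hurwitz
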