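import Groth.Agent.Curves1.TraceFiltration
import Groth.Agent.Cycles.NormLocal
import Groth.Agent.Cycles.CurveOrd
import Groth.Agent.Surfaces.DetLength
import Mathlib

/-!
The local different and discriminant of a semilocal Dedekind domain finite over a discrete valuation ring.
-/

set_option autoImplicit false
set_option linter.style.haveILetI false
set_option linter.unusedSectionVars false
set_option linter.overlappingInstances false

universe u

open Ideal IsLocalRing
open scoped nonZeroDivisors Matrix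

attribute [local instance] FractionRing.liftAlgebra FractionRing.isScalarTower_liftAlgebra

namespace Groth.Curves1.Hurwitz

section Order

variable {B : Type u} [CommRing B] [IsDomain B] [IsDedekindDomain B]

/-- Order of `ϖ ^ d * c` at the prime `(ϖ)`. -/
theorem ord_decomp (P : Ideal B) [P.IsMaximal] (S : Type u) [CommRing S] [Algebra B S] [IsLocalization.AtPrime S P]
    {ϖ c : B} (hP : P = Ideal.span {ϖ}) (hϖ : ϖ ≠ 0) (hc : c ∉ P) (d : ℕ) :
    Ring.ord S (algebraMap B S (ϖ ^ d * c)) = (d : ℕ∞) := by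
  haveI : IsDomain S := IsLocalization.isDomain_of_le_nonZeroDivisors S P.primeCompl_le_nonZeroDivisors
  haveI := IsLocalization.AtPrime.isLocalRing S P
  haveI : IsNoetherianRing S := IsLocalization.isNoetherianRing P.primeCompl S inferInstance
  have hm : maximalIdeal S = Ideal.span {algebraMap B S ϖ} := by
    rw [← IsLocalization.AtPrime.map_eq_maximalIdeal P S, hP, Ideal.map_span, Set.image_singleton]
  have hne : algebraMap B S ϖ ≠ 0 :=
    (map_ne_zero_iff _ (IsLocalization.injective S P.primeCompl_le_nonZeroDivisors)).mpr hϖ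
  rw [map_mul, map_pow, Ring.ord_mul_of_isUnit_right (IsLocalization.map_units S (⟨c, hc⟩ : P.primeCompl)),
    Ring.ord_pow (mem_nonZeroDivisors_of_ne_zero hne), Groth.Cycles.ord_uniformizer' hm, nsmul_one]

/-- Divisibility by powers of `ϖ` read off from the order. -/
theorem pow_dvd_iff_le_ord (P : Ideal B) [P.IsMaximal] (S : Type u) [CommRing S] [Algebra B S] [IsLocalization.AtPrime S P]
    {ϖ r : B} (hP : P = Ideal.span {ϖ}) (hϖ : Prime ϖ) (hr : r ≠ 0) (j : ℕ) :
    ϖ ^ j ∣ r ↔ (j : ℕ∞) ≤ Ring.ord S (algebraMap B S r) := by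
  obtain ⟨d, c, hc, rfl⟩ := WfDvdMonoid.max_power_factor hr hϖ.irreducible
  have hcP : c ∉ P := by rwa [hP, Ideal.mem_span_singleton]
  rw [ord_decomp P S hP hϖ.ne_zero hcP d, Nat.cast_le]
  refine ⟨fun h => ?_, fun h => (pow_dvd_pow _ h).mul_right c⟩
  by_contra hlt
  push Not at hlt
  have h1 : ϖ ^ (d + 1) ∣ ϖ ^ d * c := (pow_dvd_pow _ hlt).trans h
  rw [pow_succ, mul_dvd_mul_iff_left (pow_ne_zero _ hϖ.ne_zero)] at h1
  exact hc h1

end Order

section SemiLocal

variable {A B : Type u} [CommRing A] [IsDomain A] [IsDiscreteValuationRing A]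
  [CommRing B] [IsDomain B] [IsDedekindDomain B] [Algebra A B] [Module.Finite A B] [Module.IsTorsionFree A B]
  {K L : Type u} [Field K] [Field L] [Algebra A K] [IsFractionRing A K] [Algebra B L] [IsFractionRing B L]
  [Algebra K L] [Algebra A L] [IsScalarTower A B L] [IsScalarTower A K L]
  [FiniteDimensional K L] [Algebra.IsSeparable K L]

theorem le_comap_maximal {A B : Type u} [CommRing A] [IsLocalRing A] [CommRing B] [Algebra A B]
    [Module.Finite A B] (P : Ideal B) [P.IsMaximal] : maximalIdeal A ≤ P.comap (algebraMap A B) :=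
  haveI := Ideal.isMaximal_comap_of_isIntegral_of_isMaximal (R := A) P
  (eq_maximalIdeal (R := A) this).ge

theorem finite_maximalSpectrum' (A B : Type u) [CommRing A] [IsLocalRing A] [CommRing B] [Algebra A B]
    [Module.Finite A B] : Finite (MaximalSpectrum B) := by
  haveI : Module.Finite (A ⧸ maximalIdeal A) (B ⧸ (maximalIdeal A).map (algebraMap A B)) :=
    .of_restrictScalars_finite A _ _
  letI : Field (A ⧸ maximalIdeal A) := Ideal.Quotient.field _
  haveI : IsArtinianRing (B ⧸ (maximalIdeal A).map (algebraMap A B)) :=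
    IsArtinianRing.of_finite (A ⧸ maximalIdeal A) _
  let I := (maximalIdeal A).map (algebraMap A B)
  let g : MaximalSpectrum B → MaximalSpectrum (B ⧸ I) := fun n =>
    ⟨n.asIdeal.map (Ideal.Quotient.mk I), (Ideal.map_eq_top_or_isMaximal_of_surjective _
      Ideal.Quotient.mk_surjective n.isMaximal).resolve_left fun h => n.isMaximal.ne_top (by
        have h' := congrArg (Ideal.comap (Ideal.Quotient.mk I)) h
        rwa [Ideal.comap_map_of_surjective' _ Ideal.Quotient.mk_surjective, Ideal.mk_ker,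
          sup_eq_left.2 (Ideal.map_le_iff_le_comap.2 (le_comap_maximal n.asIdeal)), Ideal.comap_top] at h')⟩
  refine Finite.of_injective g fun a b hab => ?_
  have h := congrArg (fun m : MaximalSpectrum (B ⧸ I) => m.asIdeal.comap (Ideal.Quotient.mk I)) hab
  simp only [g, Ideal.comap_map_of_surjective' _ Ideal.Quotient.mk_surjective, Ideal.mk_ker] at h
  rw [sup_eq_left.2 (Ideal.map_le_iff_le_comap.2 (le_comap_maximal a.asIdeal)),
    sup_eq_left.2 (Ideal.map_le_iff_le_comap.2 (le_comap_maximal b.asIdeal))] at h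
  exact MaximalSpectrum.ext h

/-- The residue algebra at a maximal ideal. -/
@[implicit_reducible]
noncomputable def resAlg (P : Ideal B) [P.IsMaximal] : Algebra (A ⧸ maximalIdeal A) (B ⧸ P) :=
  Ideal.Quotient.algebraQuotientOfLEComap (le_comap_maximal P)

/-- The trace of a multiple of the prime-to-`P` part, modulo the maximal ideal. -/
theorem mk_intTrace_mul (P : Ideal B) [P.IsMaximal] {π : A} (hπ : maximalIdeal A = Ideal.span {π})
    (_hπ0 : π ≠ 0) {ϖ c : B} (hP : P = Ideal.span {ϖ}) (hϖ : Prime ϖ) (hc : c ∉ P) {e : ℕ}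
    (hπB : algebraMap A B π = ϖ ^ (e + 1) * c) (b : B) :
    letI := resAlg (A := A) P
    Ideal.Quotient.mk (maximalIdeal A) (Algebra.intTrace A B (c * b)) =
      (e + 1) • Algebra.trace (A ⧸ maximalIdeal A) (B ⧸ P) (Ideal.Quotient.mk P (c * b)) := by
  classical
  letI := resAlg (A := A) P
  haveI : IsScalarTower A (A ⧸ maximalIdeal A) (B ⧸ P) := .of_algebraMap_eq' rfl
  haveI : Module.Finite (A ⧸ maximalIdeal A) (B ⧸ P) := .of_restrictScalars_finite A _ _
  letI : Field (A ⧸ maximalIdeal A) := Ideal.Quotient.field _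
  set pB := (maximalIdeal A).map (algebraMap A B)
  have hspan : pB = Ideal.span {algebraMap A B π} := by
    rw [show pB = (maximalIdeal A).map (algebraMap A B) from rfl, hπ, Ideal.map_span, Set.image_singleton]
  haveI : Module.Finite (A ⧸ maximalIdeal A) (B ⧸ pB) := .of_restrictScalars_finite A _ _
  let J := Ideal.span {ϖ ^ (e + 1)}
  let C := Ideal.span {c}
  have hJ : maximalIdeal A ≤ J.comap (algebraMap A B) := by
    rw [← Ideal.map_le_iff_le_comap, show (maximalIdeal A).map (algebraMap A B) = pB from rfl, hspan,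
      Ideal.span_singleton_le_span_singleton, hπB]
    exact dvd_mul_right _ _
  have hC : maximalIdeal A ≤ C.comap (algebraMap A B) := by
    rw [← Ideal.map_le_iff_le_comap, show (maximalIdeal A).map (algebraMap A B) = pB from rfl, hspan,
      Ideal.span_singleton_le_span_singleton, hπB]
    exact dvd_mul_left _ _
  letI : Algebra (A ⧸ maximalIdeal A) (B ⧸ J) := Ideal.Quotient.algebraQuotientOfLEComap hJ
  letI : Algebra (A ⧸ maximalIdeal A) (B ⧸ C) := Ideal.Quotient.algebraQuotientOfLEComap hC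
  haveI : IsScalarTower A (A ⧸ maximalIdeal A) (B ⧸ J) := .of_algebraMap_eq' rfl
  haveI : IsScalarTower A (A ⧸ maximalIdeal A) (B ⧸ C) := .of_algebraMap_eq' rfl
  haveI : Module.Finite (A ⧸ maximalIdeal A) (B ⧸ J) := .of_restrictScalars_finite A _ _
  haveI : Module.Finite (A ⧸ maximalIdeal A) (B ⧸ C) := .of_restrictScalars_finite A _ _
  rw [← Algebra.trace_quotient_eq_of_isDedekindDomain]
  have hle : J ≤ P := by
    rw [hP, Ideal.span_singleton_le_span_singleton]
    exact dvd_pow_self _ (Nat.succ_ne_zero e)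
  let φ : (B ⧸ J) →ₐ[A ⧸ maximalIdeal A] (B ⧸ P) :=
    { Ideal.Quotient.factor hle with commutes' := Quotient.ind fun _ => rfl }
  have hmemJ : ∀ y : B, Ideal.Quotient.mk J y = 0 ↔ ϖ ^ (e + 1) ∣ y := fun y => by
    rw [Ideal.Quotient.eq_zero_iff_mem, Ideal.mem_span_singleton]
  have hU : Algebra.trace (A ⧸ maximalIdeal A) (B ⧸ J) (Ideal.Quotient.mk J (c * b)) =
      (e + 1) • Algebra.trace (A ⧸ maximalIdeal A) (B ⧸ P) (Ideal.Quotient.mk P (c * b)) := by
    refine Groth.Curves1.trace_eq_nsmul (Ideal.Quotient.mk J ϖ) e φ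
      (Ideal.Quotient.factor_surjective hle) ?_ ?_ ?_ (Ideal.Quotient.mk J (c * b))
    · rw [← map_pow, hmemJ]
    · intro v
      obtain ⟨y, rfl⟩ := Ideal.Quotient.mk_surjective v
      change Ideal.Quotient.mk P y = 0 ↔ _
      rw [← map_pow, ← map_mul, hmemJ, pow_succ, mul_dvd_mul_iff_left (pow_ne_zero _ hϖ.ne_zero),
        Ideal.Quotient.eq_zero_iff_mem, hP, Ideal.mem_span_singleton]
    · intro v hv
      obtain ⟨y, rfl⟩ := Ideal.Quotient.mk_surjective v
      rw [← map_mul, hmemJ, pow_succ', mul_dvd_mul_iff_left hϖ.ne_zero] at hv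
      obtain ⟨z, rfl⟩ := hv
      exact ⟨Ideal.Quotient.mk J z, by rw [← map_pow, ← map_mul]⟩
  have hc0 : c ≠ 0 := fun h => hc (h ▸ P.zero_mem)
  have hle1 : ∀ y : B, y ∈ J → c * y ∈ pB := fun y hy => by
    obtain ⟨z, rfl⟩ := Ideal.mem_span_singleton.1 hy
    rw [hspan, Ideal.mem_span_singleton, hπB]
    exact ⟨z, by ring⟩
  let i : (B ⧸ J) →ₗ[A ⧸ maximalIdeal A] (B ⧸ pB) :=
    { toFun := Submodule.mapQ J pB (LinearMap.mulLeft B c) hle1
      map_add' := map_add _
      map_smul' := by
        intro a v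
        obtain ⟨a, rfl⟩ := Ideal.Quotient.mk_surjective a
        obtain ⟨y, rfl⟩ := Ideal.Quotient.mk_surjective v
        rw [RingHom.id_apply, Algebra.smul_def, Algebra.smul_def]
        show Ideal.Quotient.mk pB (c * (algebraMap A B a * y)) =
          Ideal.Quotient.mk pB (algebraMap A B a) * Ideal.Quotient.mk pB (c * y)
        rw [← map_mul]
        congr 1
        ring }
  have hi : ∀ y : B, i (Ideal.Quotient.mk J y) = Ideal.Quotient.mk pB (c * y) := fun _ => rfl
  have hpC : pB ≤ C := by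
    rw [hspan, Ideal.span_singleton_le_span_singleton, hπB]
    exact dvd_mul_left _ _
  let q : (B ⧸ pB) →ₗ[A ⧸ maximalIdeal A] (B ⧸ C) :=
    ({ Ideal.Quotient.factor hpC with commutes' := Quotient.ind fun _ => rfl } :
      (B ⧸ pB) →ₐ[A ⧸ maximalIdeal A] (B ⧸ C)).toLinearMap
  have hinj : Function.Injective i := by
    refine (injective_iff_map_eq_zero i).2 fun v hv => ?_
    obtain ⟨y, rfl⟩ := Ideal.Quotient.mk_surjective v
    rw [hi, Ideal.Quotient.eq_zero_iff_mem, hspan, Ideal.mem_span_singleton, hπB, mul_comm (ϖ ^ _),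
      mul_dvd_mul_iff_left hc0] at hv
    exact (hmemJ y).2 hv
  have hex : Function.Exact i q := by
    intro v
    obtain ⟨y, rfl⟩ := Ideal.Quotient.mk_surjective v
    constructor
    · intro hy
      obtain ⟨z, rfl⟩ := Ideal.mem_span_singleton.1 (Ideal.Quotient.eq_zero_iff_mem.1 (show Ideal.Quotient.mk C y = 0 from hy))
      exact ⟨Ideal.Quotient.mk J z, rfl⟩
    · rintro ⟨w, hw⟩
      obtain ⟨z, rfl⟩ := Ideal.Quotient.mk_surjective w
      rw [← hw, hi]
      exact Ideal.Quotient.eq_zero_iff_mem.2 (Ideal.mem_span_singleton.2 (dvd_mul_right c z))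
  have hsum := Groth.Curves1.trace_eq_add_of_exact i q hinj (Ideal.Quotient.factor_surjective hpC) hex
    (LinearMap.mulLeft _ (Ideal.Quotient.mk pB (c * b))) (LinearMap.mulLeft _ (Ideal.Quotient.mk J (c * b)))
    (LinearMap.mulLeft _ (Ideal.Quotient.mk C (c * b)))
    (LinearMap.ext fun v => by
      obtain ⟨y, rfl⟩ := Ideal.Quotient.mk_surjective v
      show Ideal.Quotient.mk pB (c * b) * Ideal.Quotient.mk pB (c * y) = Ideal.Quotient.mk pB (c * (c * b * y))
      rw [← map_mul]
      congr 1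
      ring)
    (LinearMap.ext fun v => by
      obtain ⟨y, rfl⟩ := Ideal.Quotient.mk_surjective v
      rfl)
  have hzero : Ideal.Quotient.mk C (c * b) = 0 :=
    Ideal.Quotient.eq_zero_iff_mem.2 (Ideal.mem_span_singleton.2 (dvd_mul_right c b))
  rw [hzero, LinearMap.mulLeft_zero_eq_zero, map_zero, add_zero] at hsum
  rw [Algebra.trace_apply]
  exact hsum.trans hU

/-- The different is at least `e - 1` at each prime, with equality exactly in the tame case. -/
theorem ord_different (P : Ideal B) [P.IsMaximal] (S : Type u) [CommRing S] [Algebra B S] [IsLocalization.AtPrime S P]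
    [IsPrincipalIdealRing B] {π : A} (hπ : Irreducible π) {δ : B} (hδ0 : δ ≠ 0)
    (hδ : ∀ (y : L), (∀ z : B, Algebra.trace K L (y * algebraMap B L z) ∈ (algebraMap A K).range) ↔
      ∃ b : B, y * algebraMap B L δ = algebraMap B L b) :
    ∃ e d : ℕ, Ring.ord S (algebraMap B S (algebraMap A B π)) = ((e + 1 : ℕ) : ℕ∞) ∧
      Ring.ord S (algebraMap B S δ) = (d : ℕ∞) ∧ e ≤ d ∧
      (d = e ↔ (letI := resAlg (A := A) P
        Algebra.IsSeparable (A ⧸ maximalIdeal A) (B ⧸ P)) ∧ ((e + 1 : ℕ) : A ⧸ maximalIdeal A) ≠ 0) := by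
  classical
  letI := resAlg (A := A) P
  haveI : IsScalarTower A (A ⧸ maximalIdeal A) (B ⧸ P) := .of_algebraMap_eq' rfl
  haveI : Module.Finite (A ⧸ maximalIdeal A) (B ⧸ P) := .of_restrictScalars_finite A _ _
  letI : Field (A ⧸ maximalIdeal A) := Ideal.Quotient.field _
  letI : Field (B ⧸ P) := Ideal.Quotient.field _
  have hπ0 : π ≠ 0 := hπ.ne_zero
  have hm : maximalIdeal A = Ideal.span {π} := hπ.maximalIdeal_eq
  have hπB0 : algebraMap A B π ≠ 0 :=
    (map_ne_zero_iff _ (FaithfulSMul.algebraMap_injective A B)).2 hπ0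
  have hπP : algebraMap A B π ∈ P := le_comap_maximal (A := A) P (by rw [hm]; exact Ideal.mem_span_singleton_self π)
  obtain ⟨ϖ, hP⟩ := (IsPrincipalIdealRing.principal P).principal
  rw [← Ideal.span] at hP
  have hP0 : P ≠ ⊥ := fun h => hπB0 (by rw [h] at hπP; exact hπP)
  have hϖ0 : ϖ ≠ 0 := fun h => hP0 (by rw [hP, h, Ideal.span_singleton_eq_bot])
  have hϖ : Prime ϖ := (Ideal.span_singleton_prime hϖ0).1 (hP ▸ (inferInstance : P.IsPrime))
  obtain ⟨e', c, hc, hπB⟩ := WfDvdMonoid.max_power_factor hπB0 hϖ.irreducible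
  have hcP : c ∉ P := by rwa [hP, Ideal.mem_span_singleton]
  obtain ⟨e, rfl⟩ : ∃ e, e' = e + 1 := ⟨e' - 1, (Nat.succ_pred_eq_of_ne_zero fun h => hcP (by
    rw [h, pow_zero, one_mul] at hπB
    exact hπB ▸ hπP)).symm⟩
  obtain ⟨d, c', hc', hδd⟩ := WfDvdMonoid.max_power_factor hδ0 hϖ.irreducible
  have hc'P : c' ∉ P := by rwa [hP, Ideal.mem_span_singleton]
  have hord : Ring.ord S (algebraMap B S δ) = (d : ℕ∞) := by rw [hδd]; exact ord_decomp P S hP hϖ0 hc'P d
  have hdvd : ∀ j, ϖ ^ j ∣ δ ↔ j ≤ d := fun j => by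
    rw [pow_dvd_iff_le_ord P S hP hϖ hδ0, hord, Nat.cast_le]
  refine ⟨e, d, hπB ▸ ord_decomp P S hP hϖ0 hcP (e + 1), hord, ?_⟩
  have hinjB : Function.Injective (algebraMap B L) := IsFractionRing.injective B L
  have hπL : algebraMap A L π = algebraMap B L (algebraMap A B π) := IsScalarTower.algebraMap_apply A B L π
  have hπLne : algebraMap A L π ≠ 0 := hπL ▸ (map_ne_zero_iff _ hinjB).2 hπB0
  have hπK : algebraMap A K π ≠ 0 := (map_ne_zero_iff _ (IsFractionRing.injective A K)).2 hπ0
  -- divisibility of the different and traces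
  have key : ∀ j i, j + i = e + 1 →
      (ϖ ^ j ∣ δ ↔ ∀ b : B, Algebra.intTrace A B (c * (ϖ ^ i * b)) ∈ maximalIdeal A) := by
    intro j i hij
    let y : L := algebraMap B L (c * ϖ ^ i) / algebraMap A L π
    have hy : algebraMap B L (ϖ ^ j) * y = 1 := by
      rw [mul_div_assoc', ← map_mul, hπL, hπB, ← hij, pow_add, div_eq_one_iff_eq (by
        rw [← pow_add, hij, ← hπB]; exact (map_ne_zero_iff _ hinjB).2 hπB0)]
      congr 1
      ring
    have h1 : ϖ ^ j ∣ δ ↔ ∃ b : B, y * algebraMap B L δ = algebraMap B L b := by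
      constructor
      · rintro ⟨z, rfl⟩
        exact ⟨z, by rw [map_mul, ← mul_assoc, mul_comm y, hy, one_mul]⟩
      · rintro ⟨b, hb⟩
        refine ⟨b, hinjB ?_⟩
        rw [map_mul, ← hb, ← mul_assoc, hy, one_mul]
    rw [h1, ← hδ]
    refine forall_congr' fun z => ?_
    have h2 : y * algebraMap B L z = (algebraMap A K π)⁻¹ • algebraMap B L (c * (ϖ ^ i * z)) := by
      rw [Algebra.smul_def, map_inv₀, ← IsScalarTower.algebraMap_apply A K L, ← mul_assoc c, map_mul,
        ← mul_assoc, ← div_eq_inv_mul]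
    rw [h2, map_smul, smul_eq_mul, ← Algebra.algebraMap_intTrace (A := A), hm, Ideal.mem_span_singleton]
    constructor
    · rintro ⟨a, ha⟩
      refine ⟨a, IsFractionRing.injective A K ?_⟩
      rw [map_mul (algebraMap A K), ha, mul_inv_cancel_left₀ hπK]
    · rintro ⟨a, ha⟩
      exact ⟨a, by rw [ha, map_mul (algebraMap A K), inv_mul_cancel_left₀ hπK]⟩
  have htr := fun b => mk_intTrace_mul P hm hπ0 hP hϖ hcP hπB b
  have hed : e ≤ d := by
    rw [← hdvd, key e 1 rfl]
    intro b
    rw [← Ideal.Quotient.eq_zero_iff_mem, htr, (show Ideal.Quotient.mk P (c * (ϖ ^ 1 * b)) = 0 from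
      Ideal.Quotient.eq_zero_iff_mem.2 (by
        rw [hP, Ideal.mem_span_singleton, pow_one]
        exact ⟨c * b, by ring⟩)), map_zero, smul_zero]
  refine ⟨hed, ?_⟩
  have hwild : d = e ↔ ¬ ϖ ^ (e + 1) ∣ δ := by rw [hdvd]; omega
  rw [hwild, key (e + 1) 0 rfl]
  constructor
  · intro h
    push Not at h
    obtain ⟨b, hb⟩ := h
    rw [pow_zero, one_mul] at hb
    refine ⟨by_contra fun hs => hb ?_, fun h0 => hb ?_⟩
    · rw [← Ideal.Quotient.eq_zero_iff_mem, htr, Algebra.trace_eq_zero_of_not_isSeparable hs,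
        LinearMap.zero_apply, smul_zero]
    · rw [← Ideal.Quotient.eq_zero_iff_mem, htr, nsmul_eq_mul, h0, zero_mul]
  · rintro ⟨hs, he⟩ h
    obtain ⟨y, hy⟩ := Algebra.trace_surjective (A ⧸ maximalIdeal A) (B ⧸ P) 1
    have hcne : Ideal.Quotient.mk P c ≠ 0 := fun h0 => hcP (Ideal.Quotient.eq_zero_iff_mem.1 h0)
    obtain ⟨b, hb⟩ := Ideal.Quotient.mk_surjective ((Ideal.Quotient.mk P c)⁻¹ * y)
    have h' := h b
    rw [pow_zero, one_mul, ← Ideal.Quotient.eq_zero_iff_mem, htr, map_mul, hb,
      mul_inv_cancel_left₀ hcne, hy, nsmul_one] at h'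
    exact he h'

/-- The different and the discriminant of lattices. -/
theorem exists_different :
    ∃ δ : B, δ ≠ 0 ∧
      (∀ (y : L), (∀ z : B, Algebra.trace K L (y * algebraMap B L z) ∈ (algebraMap A K).range) ↔
        ∃ b : B, y * algebraMap B L δ = algebraMap B L b) ∧
      ∀ {m : ℕ} (_ : Module.finrank K L = m) (r : Fin m → B),
        LinearIndependent K (fun i => algebraMap B L (r i)) →
        ∃ ℓ : ℕ, Module.length A (B ⧸ Submodule.span A (Set.range r)) = (ℓ : ℕ∞) ∧
          CycAlg.ordFrac A K (Algebra.discr K fun i => algebraMap B L (r i)) =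
            2 * (ℓ : ℤ) + CycAlg.ordFrac A K (Algebra.norm K (algebraMap B L δ)) := by
  classical
  haveI := finite_maximalSpectrum' A B
  haveI : IsPrincipalIdealRing B := IsPrincipalIdealRing.of_finite_maximals
    ((Set.finite_range fun n : MaximalSpectrum B => n.asIdeal).subset fun I hI => ⟨⟨I, hI⟩, rfl⟩)
  haveI : IsLocalization (Algebra.algebraMapSubmonoid B A⁰) L := IsIntegralClosure.isLocalization _ K _ _
  haveI : Algebra.IsSeparable (FractionRing A) (FractionRing B) :=
    Algebra.IsSeparable.of_equiv_equiv (FractionRing.algEquiv A K).symm.toRingEquiv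
      (FractionRing.algEquiv B L).symm.toRingEquiv (by
        apply IsLocalization.ringHom_ext A⁰
        ext
        simp only [RingHom.coe_comp, RingHom.coe_coe,
          AlgEquiv.coe_ringEquiv, Function.comp_apply, AlgEquiv.commutes,
          ← IsScalarTower.algebraMap_apply]
        rw [IsScalarTower.algebraMap_apply A B L, AlgEquiv.commutes, ← IsScalarTower.algebraMap_apply])
  obtain ⟨δ, hδ⟩ := (IsPrincipalIdealRing.principal (differentIdeal A B)).principal
  rw [← Ideal.span] at hδ
  have hδ0 : δ ≠ 0 := fun h => differentIdeal_ne_bot (A := A) (B := B)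
    (by rw [hδ, h, Ideal.span_singleton_eq_bot])
  have hinjB : Function.Injective (algebraMap B L) := IsFractionRing.injective B L
  have hδL : algebraMap B L δ ≠ 0 := (map_ne_zero_iff _ hinjB).2 hδ0
  have hdual : FractionalIdeal.dual A K (1 : FractionalIdeal B⁰ L) =
      FractionalIdeal.spanSingleton B⁰ (algebraMap B L δ)⁻¹ := by
    rw [← FractionalIdeal.spanSingleton_inv, ← FractionalIdeal.coeIdeal_span_singleton, ← hδ,
      coeIdeal_differentIdeal A K, inv_inv]
  have hcrit : ∀ (y : L), (∀ z : B, Algebra.trace K L (y * algebraMap B L z) ∈ (algebraMap A K).range) ↔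
      ∃ b : B, y * algebraMap B L δ = algebraMap B L b := by
    intro y
    have h1 : y ∈ FractionalIdeal.dual A K (1 : FractionalIdeal B⁰ L) ↔
        ∀ z : B, Algebra.trace K L (y * algebraMap B L z) ∈ (algebraMap A K).range := by
      rw [FractionalIdeal.mem_dual (one_ne_zero' (FractionalIdeal B⁰ L))]
      constructor
      · exact fun h z => h _ ((FractionalIdeal.mem_one_iff _).2 ⟨z, rfl⟩)
      · intro h a ha
        obtain ⟨z, rfl⟩ := (FractionalIdeal.mem_one_iff _).1 ha
        exact h z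
    rw [← h1, hdual, FractionalIdeal.mem_spanSingleton]
    refine exists_congr fun b => ?_
    rw [Algebra.smul_def, ← div_eq_mul_inv, div_eq_iff hδL]
    exact eq_comm
  refine ⟨δ, hδ0, hcrit, fun {m} hm r hr => ?_⟩
  haveI : Module.Free A B := Module.free_of_finite_type_torsion_free'
  let ω := Module.finBasis A B
  let ωL : Module.Basis _ K L := ω.localizationLocalization K A⁰ L
  have hn : Module.finrank A B = m := by
    rw [← hm, Module.finrank_eq_card_basis ωL, Fintype.card_fin]
  subst hn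
  have hωL : ∀ i, ωL i = algebraMap B L (ω i) := fun i => ω.localizationLocalization_apply K A⁰ L i
  have hωfun : (⇑ωL : _ → L) = fun i => algebraMap B L (ω i) := funext hωL
  -- change of basis
  let P : Matrix (Fin (Module.finrank A B)) (Fin (Module.finrank A B)) A := ω.toMatrix r
  have hr' : (fun i => algebraMap B L (r i)) = (fun i => algebraMap B L (ω i)) ᵥ* (P.map (algebraMap A K)).map (algebraMap K L) := by
    funext i
    conv_lhs => rw [← ω.sum_repr (r i), map_sum]
    refine Finset.sum_congr rfl fun j _ => ?_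
    rw [Algebra.smul_def, map_mul, ← IsScalarTower.algebraMap_apply A B L, mul_comm]
    simp only [Matrix.map_apply, ← IsScalarTower.algebraMap_apply A K L]
    rfl
  have hdisc : Algebra.discr K (fun i => algebraMap B L (r i)) =
      algebraMap A K P.det ^ 2 * Algebra.discr K (⇑ωL) := by
    rw [hr', Algebra.discr_of_matrix_vecMul, hωfun, RingHom.map_det]
    rfl
  have hdr : Algebra.discr K (fun i => algebraMap B L (r i)) ≠ 0 := by
    haveI : Nonempty (Fin (Module.finrank A B)) := ⟨⟨0, hm ▸ Module.finrank_pos⟩⟩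
    have := Algebra.discr_not_zero_of_basis K (basisOfLinearIndependentOfCardEqFinrank hr (by
      rw [Fintype.card_fin]; exact hm.symm))
    simpa using this
  have hP0 : P.det ≠ 0 := fun h => hdr (by rw [hdisc, h, map_zero]; ring)
  -- length of the cokernel
  let φ : B →ₗ[A] B := Matrix.toLin ω ω P
  have hφdet : LinearMap.det φ = P.det := LinearMap.det_toLin ω P
  have hrange : LinearMap.range φ = Submodule.span A (Set.range r) := by
    rw [LinearMap.range_eq_map, ← ω.span_eq, Submodule.map_span, ← Set.range_comp]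
    congr 2
    funext i
    show Matrix.toLin ω ω P (ω i) = r i
    rw [Matrix.toLin_self]
    exact ω.sum_repr (r i)
  have hlen := Groth.Surfaces.DetLength.length_coker_eq_ord ω φ (mem_nonZeroDivisors_of_ne_zero (hφdet ▸ hP0))
  rw [hrange, hφdet] at hlen
  obtain ⟨ℓ, hℓ⟩ := ENat.ne_top_iff_exists.1 (Ring.ord_ne_top (mem_nonZeroDivisors_of_ne_zero hP0))
  refine ⟨ℓ, hlen.trans hℓ.symm, ?_⟩
  -- discriminant of an integral basis
  let T : Matrix (Fin (Module.finrank A B)) (Fin (Module.finrank A B)) K :=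
    Matrix.of fun i j => Algebra.trace K L (ωL i * ωL j * (algebraMap B L δ)⁻¹)
  have hT : Algebra.traceMatrix K (⇑ωL) = T * Algebra.leftMulMatrix ωL (algebraMap B L δ) := by
    ext i j
    have h := ωL.sum_repr (algebraMap B L δ * ωL j)
    rw [Matrix.mul_apply, Algebra.traceMatrix_apply, Algebra.traceForm_apply]
    conv_lhs => rw [show ωL i * ωL j = ωL i * (algebraMap B L δ)⁻¹ * (algebraMap B L δ * ωL j) by
      field_simp, ← h, Finset.mul_sum, map_sum]
    refine Finset.sum_congr rfl fun k _ => ?_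
    rw [mul_smul_comm, map_smul, smul_eq_mul, Algebra.leftMulMatrix_eq_repr_mul, mul_comm]
    simp only [T, Matrix.of_apply]
    congr 1
    congr 1
    ring
  choose T' hT' using fun i j => ((hcrit (algebraMap B L (ω i) * (algebraMap B L δ)⁻¹)).2
    ⟨ω i, by rw [mul_assoc, inv_mul_cancel₀ hδL, mul_one]⟩ (ω j))
  let Θ : Matrix (Fin (Module.finrank A B)) (Fin (Module.finrank A B)) A := Matrix.of fun i j => T' i j
  have hΘ : Θ.map (algebraMap A K) = T := by
    ext i j
    simp only [T, Θ, Matrix.map_apply, Matrix.of_apply]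
    rw [hT']
    simp only [hωL]
    congr 1
    ring
  have hG : (Algebra.traceMatrix K (⇑ωL)).det ≠ 0 := Algebra.discr_not_zero_of_basis K ωL
  have hsurj : Function.Surjective Θ.mulVec := by
    intro v
    let w := (Algebra.traceMatrix K (⇑ωL))⁻¹ *ᵥ fun i => algebraMap A K (v i)
    let y : L := ωL.equivFun.symm w
    have hy : ∀ i, Algebra.trace K L (y * ωL i) = algebraMap A K (v i) := fun i => by
      have h := congrFun (Algebra.traceMatrix_of_basis_mulVec ωL y) i
      rw [ωL.equivFun.apply_symm_apply, Matrix.mulVec_mulVec, Matrix.mul_nonsing_inv _ (Ne.isUnit hG),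
        Matrix.one_mulVec] at h
      exact h.symm
    obtain ⟨b, hb⟩ := (hcrit y).1 fun z => by
      rw [← ω.sum_repr z, map_sum, Finset.mul_sum, map_sum]
      refine Subring.sum_mem _ fun i _ => ⟨ω.repr z i * v i, ?_⟩
      rw [Algebra.smul_def, map_mul (algebraMap A K), map_mul (algebraMap B L), ← IsScalarTower.algebraMap_apply A B L,
        IsScalarTower.algebraMap_apply A K L, mul_left_comm, ← Algebra.smul_def (R := K) (A := L), map_smul, smul_eq_mul, ← hωL, hy]
    refine ⟨fun j => ω.repr b j, funext fun i => IsFractionRing.injective A K ?_⟩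
    rw [RingHom.map_mulVec, hΘ, ← hy i]
    have hyb : y = algebraMap B L b * (algebraMap B L δ)⁻¹ := by rw [← hb, mul_assoc, mul_inv_cancel₀ hδL, mul_one]
    rw [hyb]
    conv_rhs => rw [← ω.sum_repr b, map_sum, Finset.sum_mul, Finset.sum_mul, map_sum]
    simp only [Matrix.mulVec, dotProduct]
    refine Finset.sum_congr rfl fun j _ => ?_
    simp only [T, Matrix.of_apply, Function.comp_apply]
    rw [Algebra.smul_def, map_mul (algebraMap B L), ← IsScalarTower.algebraMap_apply A B L,
      IsScalarTower.algebraMap_apply A K L, mul_assoc, mul_assoc, ← Algebra.smul_def (R := K) (A := L), smul_mul_assoc, map_smul, smul_eq_mul,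
      mul_comm (Algebra.trace K L _)]
    simp only [hωL]
    congr 2
    ring
  have hΘu : IsUnit Θ.det := (Matrix.isUnit_iff_isUnit_det Θ).1 (Matrix.mulVec_surjective_iff_isUnit.1 hsurj)
  have hω : CycAlg.ordFrac A K (Algebra.discr K (⇑ωL)) =
      CycAlg.ordFrac A K (Algebra.norm K (algebraMap B L δ)) := by
    rw [Algebra.discr_def, hT, Matrix.det_mul, ← Algebra.norm_eq_matrix_det ωL, ← hΘ,
      ← RingHom.mapMatrix_apply, ← RingHom.map_det,
      Groth.RefRank.ordFrac_mul' ((map_ne_zero_iff _ (IsFractionRing.injective A K)).2 hΘu.ne_zero)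
        (Algebra.norm_ne_zero_iff.2 hδL), Groth.RefRank.ordFrac_of_isUnit' hΘu, zero_add]
  rw [hdisc, Groth.RefRank.ordFrac_mul' (pow_ne_zero _ ((map_ne_zero_iff _ (IsFractionRing.injective A K)).2 hP0)) (show Algebra.discr K (⇑ωL) ≠ 0 from hG),
    hω, sq, Groth.RefRank.ordFrac_mul' ((map_ne_zero_iff _ (IsFractionRing.injective A K)).2 hP0)
      ((map_ne_zero_iff _ (IsFractionRing.injective A K)).2 hP0), Groth.RefRank.ordFrac_algebraMap' hP0, ← hℓ,
    ENat.toNat_natCast]
  ring

end SemiLocal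

end Groth.Curves1.Hurwitz
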