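import Groth.Agent.Curves1.Hurwitz.Semilocal
import Groth.Agent.CurveBridge.FromDivisor
import Groth.Agent.EulerDeg.GenericRank
import Groth.Agent.DegMono.StalkSum
import Groth.Agent.Cycles.CurveDegree
import Groth.Agent.Curves1.RR.EtaleGenusZero
import Mathlib.RingTheory.LocalRing.Length

/-!
Lattices in `f_* O_X` on a curve: maps from invertible modules, Euler characteristics through stalk lengths.
-/

set_option autoImplicit false
set_option linter.style.haveILetI false
set_option linter.unusedSectionVars false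
set_option synthInstance.maxHeartbeats 400000
set_option backward.isDefEq.respectTransparency.types false

universe u

open CategoryTheory Limits AlgebraicGeometry Opposite TopologicalSpace IsLocalRing Coh
open Groth.PicAux Groth.RefRank Groth.EulerDeg

namespace Groth.Curves1.Hurwitz

open Groth.CohTwo (stalkLin stalkLin_germ stalkLin_comp powMod powStalk)
open Groth.CurveBridge (constK kv kv_smul kv_res InStalk generic_mem)

section MulHom

variable {X Y : Scheme.{u}} [IsIntegral X] [IsIntegral Y] (π : X ⟶ Y) [IsFinite π] [Surjective π]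

/-- Multiplication by a rational function, from a module of rational functions into `π_* O_X`. -/
theorem exists_mulHom (hX : Pi1.IsNormalScheme X) {M : Y.Modules} (φ : M ⟶ constK Y) (b : X.functionField)
    (hint : ∀ (y : Y) z, InStalk φ y z →
      (letI := stalkAlg π y; IsIntegral (Y.presheaf.stalk y) (b * ffMap π z))) :
    ∃ ψ : M ⟶ (Scheme.Modules.pushforward π).obj (structureModule X),
      ∀ (U : Y.Opens) (hU : genericPoint Y ∈ U) (m : Γ(M, U)),
        (haveI : Nonempty U := ⟨⟨_, hU⟩⟩; haveI := nonempty_preimage π U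
         X.germToFunctionField (π ⁻¹ᵁ U) (show Γ(X, π ⁻¹ᵁ U) from ψ.app U m)) =
          b * ffMap π (kv hU (φ.app U m)) := by
  classical
  have key : ∀ (V : Y.Opens) (m : Γ(M, V)), ∃! s : Γ(X, π ⁻¹ᵁ V), ∀ (hV : genericPoint Y ∈ V),
      (haveI : Nonempty V := ⟨⟨_, hV⟩⟩; haveI := nonempty_preimage π V
       X.germToFunctionField (π ⁻¹ᵁ V) s) = b * ffMap π (kv hV (φ.app V m)) := by
    intro V m
    by_cases hV : genericPoint Y ∈ V
    swap
    · have : V = ⊥ := eq_bot_iff.2 fun y hy => hV (generic_mem V hy)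
      subst this
      haveI : Subsingleton Γ(X, π ⁻¹ᵁ (⊥ : Y.Opens)) :=
        CommRingCat.subsingleton_of_isTerminal (X.sheaf.isTerminalOfEqEmpty rfl)
      exact ⟨0, fun h => (hV h).elim, fun _ _ => Subsingleton.elim _ _⟩
    haveI : Nonempty V := ⟨⟨_, hV⟩⟩
    haveI := nonempty_preimage π V
    obtain ⟨s, hs⟩ := Groth.Variety2.exists_section_of_forall_stalk (π ⁻¹ᵁ V)
      (b * ffMap π (kv hV (φ.app V m))) fun x hx => by
        obtain ⟨ε, hε, -, -, himg⟩ := exists_germVal π (π x)
        obtain ⟨t, ht⟩ := (himg hX _).1 (hint (π x) _ ⟨V, hx, m, rfl⟩)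
        obtain ⟨W, hW, s', rfl⟩ := Groth.QCohMod.exists_germ _ (π x) t
        rw [hε W hW (show Γ(X, π ⁻¹ᵁ W) from s')] at ht
        haveI : Nonempty W := ⟨⟨_, hW⟩⟩
        haveI := nonempty_preimage π W
        exact ⟨X.presheaf.germ (π ⁻¹ᵁ W) x hW (show Γ(X, π ⁻¹ᵁ W) from s'),
          (Scheme.algebraMap_germ_eq_germToFunctionField (X := X) hW _).trans ht⟩
    exact ⟨s, fun _ => hs, fun s' hs' => X.germToFunctionField_injective _ ((hs' hV).trans hs.symm)⟩
  choose g hg hguniq using key
  obtain ⟨ψ, hψ⟩ := exists_hom_of_cover (L := M) (M := (Scheme.Modules.pushforward π).obj (structureModule X))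
    (U := fun _ : Unit => (⊤ : Y.Opens)) (by simp) (fun _ V _ m => (show Γ(X, π ⁻¹ᵁ V) from g V m))
    (fun _ V _ x y => (hguniq V (x + y) (g V x + g V y) fun hV => by
      haveI : Nonempty V := ⟨⟨_, hV⟩⟩
      haveI := nonempty_preimage π V
      rw [map_add, hg V x hV, hg V y hV, ← mul_add, ← map_add, ← map_add, ← map_add]).symm)
    (fun _ V _ r x => (hguniq V (r • x) (π.app V r * g V x) fun hV => by
      haveI : Nonempty V := ⟨⟨_, hV⟩⟩
      haveI := nonempty_preimage π V
      rw [map_mul, hg V x hV, ← ffMap_germ π V r, Scheme.Modules.Hom.app_smul, kv_smul, map_mul]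
      exact mul_left_comm _ _ _).symm)
    (fun _ V W _ h x => hguniq W (res M h x) (resX X (π.preimage_mono h) (g V x)) fun hW => by
      haveI : Nonempty V := ⟨⟨_, h hW⟩⟩
      haveI : Nonempty W := ⟨⟨_, hW⟩⟩
      haveI := nonempty_preimage π V
      haveI := nonempty_preimage π W
      rw [resX_germFF, hg V x (h hW), app_res, kv_res])
    (fun _ _ _ _ _ _ => rfl)
  exact ⟨ψ, fun U hU m => by rw [hψ () U le_top m]; exact hg U m hU⟩

end MulHom

section Euler

variable (k : Type u) [Field k] {Y : Scheme.{u}} [Y.Over (Spec (CommRingCat.of k))]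

/-- The dimension of a stalk of finite length. -/
theorem finrank_stalk_eq (C : Y.Modules) (y : Y) {l : ℕ}
    (hl : Module.length (Y.presheaf.stalk y) (C.presheaf.stalk y) = (l : ℕ∞)) :
    letI := DegMono.stalkModule k C y
    Module.finrank k (C.presheaf.stalk y) = l * (Y ↘ Spec (CommRingCat.of k)).residueDegree y := by
  letI := DegMono.stalkModule k C y
  letI := (Curv2.stalkMap k Y y).toAlgebra
  haveI : IsScalarTower k (Y.presheaf.stalk y) (C.presheaf.stalk y) :=
    IsScalarTower.of_algebraMap_smul fun _ _ => rfl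
  haveI : IsLocalHom (algebraMap k (Y.presheaf.stalk y)) := ⟨fun a ha => isUnit_iff_ne_zero.2 fun h0 => by
    rw [h0, map_zero] at ha
    exact not_isUnit_zero ha⟩
  have h := IsLocalRing.length_restrictScalars k (Y.presheaf.stalk y) (C.presheaf.stalk y)
  rw [hl, ← Module.length_eq_of_surjective (M := ResidueField (Y.presheaf.stalk y))
    (residue_surjective (R := k))] at h
  have h2 := congrArg ENat.toNat h
  rw [ENat.toNat_mul, ENat.toNat_natCast, Groth.Cycles.toNat_length_eq_finrank,
    Groth.Cycles.toNat_length_eq_finrank] at h2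
  rw [h2, Groth.Cycles.residueDegree_eq_finrank_over]
  rfl

variable [IsIntegral Y] [IsProper (Y ↘ Spec (CommRingCat.of k))]

theorem euler_powMod {M : Y.Modules} (hM : IsCoh M) (n : ℕ) :
    Curv2.euler k Y (powMod M n) = n * Curv2.euler k Y M := by
  induction n with
  | zero =>
    have := noetherianSpace_of_proper k Y
    have hs : ∀ x : Y, Subsingleton ((powMod M 0).presheaf.stalk x) := fun x => (powStalk M 0 x).toEquiv.subsingleton
    have h : SupportedAtClosed (powMod M 0) := fun x hx => absurd (hs x) hx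
    rw [euler_eq_h0 k h]
    have : Subsingleton Γ(powMod M 0, (⊤ : Y.Opens)) := subsingleton_of_forall_eq 0 fun s =>
      section_eq_zero s fun x _ hx => absurd (hs x) hx
    have : Subsingleton (HH Y (powMod M 0) 0) := (h0Equiv k (powMod M 0)).toEquiv.subsingleton
    rw [Module.finrank_zero_of_subsingleton]
    simp
  | succ n ih =>
    obtain ⟨f, g, w, hS⟩ := powSeq_shortExact M n
    have e : Curv2.euler k Y (powMod M (n + 1)) = Curv2.euler k Y M + Curv2.euler k Y (powMod M n) :=
      euler_add (S := ShortComplex.mk f g w) hS (Groth.EulerDeg.finCoh k Y hM)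
        (Groth.EulerDeg.finCoh k Y (Groth.CohTwo.isCoh_powMod hM n))
    rw [e, ih]
    push_cast
    ring

/-- The Euler characteristic along a monomorphism with cokernel of finite length at closed points. -/
theorem euler_eq_add_sum (hdim : topologicalKrullDim Y ≤ 1) {F E : Y.Modules} (hF : IsCoh F) (hE : IsCoh E)
    (Φ : F ⟶ E) [Mono Φ] (hgen : Function.Surjective (stalkLin Φ (genericPoint Y))) (ℓ : Y → ℕ)
    (hlen : ∀ y : Y, IsClosed ({y} : Set Y) → Module.length (Y.presheaf.stalk y)
      (E.presheaf.stalk y ⧸ (stalkLin Φ y).range) = (ℓ y : ℕ∞)) :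
    ∃ S : Finset Y, (∀ y ∈ S, IsClosed ({y} : Set Y)) ∧
      (∀ y, IsClosed ({y} : Set Y) → ℓ y ≠ 0 → y ∈ S) ∧
      Curv2.euler k Y E = Curv2.euler k Y F +
        ∑ y ∈ S, ((Y ↘ Spec (CommRingCat.of k)).residueDegree y : ℤ) * (ℓ y : ℤ) := by
  classical
  have := isNoetherian_of_proper k Y
  have := hF.1
  let p := cokernel.π Φ
  have hp : ∀ y, Function.Surjective (stalkLin p y) := fun y t =>
    ((Groth.QCohMod.epi_iff_stalk p).1 inferInstance y t)
  have hex : ∀ y (v : E.presheaf.stalk y), stalkLin p y v = 0 ↔ v ∈ (stalkLin Φ y).range := by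
    intro y v
    have h := (Groth.QCohMod.exact_iff_stalk _).1 (ShortComplex.exact_cokernel Φ) y
    rw [ShortComplex.ab_exact_iff] at h
    constructor
    · intro hv
      obtain ⟨u, hu⟩ := h v hv
      exact ⟨u, hu⟩
    · rintro ⟨u, rfl⟩
      rw [← stalkLin_comp, cokernel.condition, Groth.CohTwo.stalkLin_zero]
  let e : ∀ y, (E.presheaf.stalk y ⧸ (stalkLin Φ y).range) ≃ₗ[Y.presheaf.stalk y]
      (cokernel Φ).presheaf.stalk y := fun y =>
    Submodule.quotEquivOfEq _ _ (Submodule.ext fun v => (hex y v).symm) ≪≫ₗ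
      (stalkLin p y).quotKerEquivOfSurjective (hp y)
  have hC : IsCoh (cokernel Φ) := Groth.QCohMod.isCoh_cokernel Φ hE
  have hsupp : SupportedAtClosed (cokernel Φ) := by
    intro x hx
    by_contra hc
    obtain rfl := Groth.EulerDeg.eq_genericPoint_of_not_isClosed hdim hc
    apply hx
    haveI : Subsingleton (E.presheaf.stalk (genericPoint Y) ⧸ (stalkLin Φ (genericPoint Y)).range) :=
      Submodule.Quotient.subsingleton_iff.2 (LinearMap.range_eq_top.2 hgen)
    exact (e (genericPoint Y)).symm.toEquiv.subsingleton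
  obtain ⟨S, hS⟩ := (finite_support_and_isClosed hsupp hC).exists_finset_coe
  have hSc : ∀ y ∈ S, IsClosed ({y} : Set Y) := fun y hy => hsupp y (hS ▸ hy)
  have hout : ∀ y ∉ S, Subsingleton ((cokernel Φ).presheaf.stalk y) := fun y hy =>
    not_not.1 fun h => hy (by rw [← Finset.mem_coe, hS]; exact h)
  refine ⟨S, hSc, fun y hyc hne => ?_, ?_⟩
  · by_contra hy
    haveI := hout y hy
    haveI := (e y).toEquiv.subsingleton
    have h := hlen y hyc
    rw [Module.length_eq_zero] at h
    exact hne (by exact_mod_cast h.symm)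
  · have hses : (ShortComplex.mk Φ p (cokernel.condition Φ)).ShortExact :=
      { exact := ShortComplex.exact_cokernel Φ }
    have hadd : Curv2.euler k Y E = Curv2.euler k Y F + Curv2.euler k Y (cokernel Φ) :=
      euler_add (S := ShortComplex.mk Φ p (cokernel.condition Φ)) hses (Groth.EulerDeg.finCoh k Y hF)
        (Groth.EulerDeg.finCoh k Y hC)
    rw [hadd, euler_eq_h0 k hsupp]
    letI := fun x : Y => DegMono.stalkModule k (cokernel Φ) x
    haveI : Module.Finite k (HH Y (cokernel Φ) 0) := finite_HH k Y hC 0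
    let eS := DegMono.hhEquivPi k (cokernel Φ) S hSc hout
    haveI := Module.Finite.equiv eS
    haveI : ∀ x : S, Module.Finite k ((cokernel Φ).presheaf.stalk (x : Y)) := fun x =>
      Module.Finite.of_surjective (LinearMap.proj (R := k) (φ := fun x : S => (cokernel Φ).presheaf.stalk (x : Y)) x)
        (fun v => ⟨Function.update 0 x v, Function.update_self _ _ _⟩)
    rw [eS.finrank_eq, Module.finrank_pi_fintype, Nat.cast_sum, add_right_inj,
      Finset.sum_coe_sort S (fun x => ((Module.finrank k ((cokernel Φ).presheaf.stalk x) : ℕ) : ℤ))]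
    refine Finset.sum_congr rfl fun x hx => ?_
    rw [finrank_stalk_eq k (cokernel Φ) x ((e x).length_eq.symm.trans (hlen x (hSc x hx)))]
    push_cast
    ring

end Euler

end Groth.Curves1.Hurwitz
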