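import Groth.Agent.RefRank.FittSheaf
import Groth.Agent.PicAux.EffCartierLine
import Groth.Agent.EulerDeg.LineBundle
import Groth.Agent.PicAux.PullTensor

/-!
A map of invertible modules is the inclusion of `L ⊗ I`, `I` the zeroth Fitting ideal of its cokernel.
-/

set_option autoImplicit false
set_option linter.style.haveILetI false

universe u

open CategoryTheory Limits AlgebraicGeometry TopologicalSpace Opposite
open Groth.PicAux

namespace Groth.Curves1.Hurwitz

/-- The zeroth Fitting ideal of a cyclic module with annihilator `(a)`. -/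
theorem fitt_cyclic {R M : Type u} [CommRing R] [AddCommGroup M] [Module R M] (x : M) (a : R)
    (hx : Submodule.span R {x} = ⊤) (ha : ∀ r : R, r • x = 0 ↔ r ∈ Ideal.span {a}) :
    Fitt.ideal R M 0 = Ideal.span {a} := by
  refine le_antisymm (fun r hr => ?_) ((Ideal.span_singleton_le_iff_mem (I := Fitt.ideal R M 0)).2 ?_)
  · exact (ha r).1 (Module.mem_annihilator.1 (Groth.Misc3Fitt.ideal_le_annihilator hr) x)
  · refine Ideal.subset_span ⟨1, fun _ => x, Matrix.diagonal fun _ => a, ?_, fun i _ => ?_, ?_⟩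
    · rw [Set.range_const]
      exact hx
    · rw [Fin.sum_univ_one, Fin.fin_one_eq_zero i, Matrix.diagonal_apply_eq]
      exact (ha a).2 (Ideal.mem_span_singleton_self a)
    · simp

variable {X : Scheme.{u}} [IsIntegral X]

/-- `L ⊗ Fitt₀(coker c) ≅ N` for a nonzero map `c : N ⟶ L` of invertible modules. -/
theorem nonempty_iso_tensor_fitting {N L Q : X.Modules} (hN : PicF.IsInvertible N) (hL : PicF.IsInvertible L)
    (c : N ⟶ L) (hc : c ≠ 0) (p : L ⟶ Q) (w : c ≫ p = 0) (hex : (ShortComplex.mk c p w).Exact) [Epi p]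
    (hQ : Q.IsQuasicoherent) (hQft : CohB1.IsFT Q) :
    Nonempty (CohB1.tensorMod L (ClSub.idealMod (Fitt.sheafIdeal Q 0)) ≅ N) := by
  classical
  haveI := hQ
  haveI := (Groth.EulerDeg.isCoh_of_isInvertible hN).1
  haveI := (Groth.EulerDeg.isCoh_of_isInvertible hL).1
  set I := Fitt.sheafIdeal Q 0 with hI
  have hloc : ∀ x : X, ∃ (W : X.affineOpens) (g : Γ(N, W.1)) (e : Γ(L, W.1)) (k : Γ(ClSub.idealMod I, W.1)),
      x ∈ W.1 ∧ Gen N W.1 g ∧ Gen L W.1 e ∧ Gen (ClSub.idealMod I) W.1 k ∧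
        OmegaSh.idealSect I W.1 k ≠ 0 ∧
        c.app W.1 g = OmegaSh.idealSect I W.1 k • e := by
    intro x
    obtain ⟨V, g, e, a, hxV, hg, he, hge⟩ := Groth.EulerDeg.exists_frames (φ := c) hN hL x
    obtain ⟨W₀, hW, hxW, hWV⟩ := exists_isAffineOpen_mem_and_subset (x := x) (U := V) hxV
    haveI : Nonempty V := ⟨⟨x, hxV⟩⟩
    haveI : Nonempty W₀ := ⟨⟨x, hxW⟩⟩
    haveI : Nonempty W₀.toScheme := ⟨⟨x, hxW⟩⟩
    let W : X.affineOpens := ⟨W₀, hW⟩
    have hWV' : W₀ ≤ V := hWV
    have hge' : c.app W₀ (res N hWV' g) = resX X hWV' a • res L hWV' e := by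
      rw [app_res, hge, res_smul]
    have ha : resX X hWV' a ≠ 0 := fun h =>
      Groth.EulerDeg.coeff_ne_zero hN hL hc hg hge
        (map_injective_of_isIntegral X (homOfLE hWV') (h.trans (map_zero _).symm))
    have hspan : Submodule.span Γ(X, W₀) {p.app W₀ (res L hWV' e)} = ⊤ := by
      refine eq_top_iff.2 fun q _ => ?_
      obtain ⟨l, rfl⟩ := Groth.QCohMod.app_surjective_of_epi p hW q
      obtain ⟨r, rfl⟩ := he.exists_coeff hWV' l
      rw [Scheme.Modules.Hom.app_smul]
      exact Submodule.smul_mem _ _ (Submodule.mem_span_singleton_self _)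
    have hann : ∀ r : Γ(X, W₀), r • p.app W₀ (res L hWV' e) = 0 ↔ r ∈ Ideal.span {resX X hWV' a} := by
      intro r
      rw [Ideal.mem_span_singleton', ← Scheme.Modules.Hom.app_smul]
      constructor
      · intro h
        obtain ⟨n, hn⟩ := Groth.QCohMod.exists_app_eq_of_exact hex hW (r • res L hWV' e) h
        obtain ⟨s, rfl⟩ := hg.exists_coeff hWV' n
        change c.app W₀ (s • res N hWV' g) = _ at hn
        rw [Scheme.Modules.Hom.app_smul, hge', ← mul_smul] at hn
        exact ⟨s, he.smul_inj hWV' hn⟩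
      · rintro ⟨s, rfl⟩
        rw [mul_smul, Scheme.Modules.Hom.app_smul, ← hge']
        show s • (c ≫ p).app W₀ _ = 0
        rw [w]
        exact smul_zero (M := Γ(X, W₀)) (A := Γ(Q, W₀)) _
    have hideal : I.ideal W = Ideal.span {resX X hWV' a} := by
      rw [hI, Groth.RefRank.FittSheaf.sheafIdeal_ideal Q hQft]
      exact fitt_cyclic _ _ hspan hann
    obtain ⟨k, hk⟩ := Groth.OmegaSheaf.exists_idealSect I W
      (show resX X hWV' a ∈ I.ideal W from hideal ▸ Ideal.mem_span_singleton_self _)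
    refine ⟨W, res N hWV' g, res L hWV' e, k, hxW, hg.res hWV', he.res hWV', ?_, ?_, ?_⟩
    · refine gen_idealMod W ?_ (by rw [hk]; exact hideal)
      rw [hk]
      exact Divisors.isNzdSec_of_mem hW (mem_nonZeroDivisors_of_ne_zero ha)
    · rw [hk]; exact ha
    · rw [hk]; exact hge'
  choose W g e k hxW hg he hk hk0 hge using hloc
  have hcov : iSup (fun x : X => (W x).1) = ⊤ := eq_top_iff.2 fun y _ => Opens.mem_iSup.2 ⟨y, hxW y⟩
  obtain ⟨iso, -⟩ := exists_iso_of_gen hcov (fun x => tmulSec (e x) (k x)) (fun x => (he x).tensor (hk x)) g hg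
    fun i j r hr => by
      obtain ⟨p', hp'⟩ := (he j).exists_coeff inf_le_right (res L (inf_le_left : (W i).1 ⊓ (W j).1 ≤ (W i).1) (e i))
      obtain ⟨q, hq⟩ := (hk j).exists_coeff inf_le_right
        (res (ClSub.idealMod I) (inf_le_left : (W i).1 ⊓ (W j).1 ≤ (W i).1) (k i))
      obtain ⟨s, hs⟩ := (hg j).exists_coeff inf_le_right (res N (inf_le_left : (W i).1 ⊓ (W j).1 ≤ (W i).1) (g i))
      rw [res_tmulSec, res_tmulSec, hp', hq, tmulSec_smul_left, tmulSec_smul_right, ← mul_smul] at hr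
      have hpq : p' * q = r := ((he j).tensor (hk j)).smul_inj inf_le_right (by rw [res_tmulSec]; exact hr)
      have hV : Nonempty ((W i).1 ⊓ (W j).1 : X.Opens) :=
        ⟨⟨genericPoint X, ((genericPoint_spec X).mem_open_set_iff (W i).1.2).2 ⟨i, trivial, hxW i⟩,
          ((genericPoint_spec X).mem_open_set_iff (W j).1.2).2 ⟨j, trivial, hxW j⟩⟩⟩
      haveI : Nonempty (W j).1 := ⟨⟨j, hxW j⟩⟩
      have hqa := congrArg (OmegaSh.idealSect I _) hq
      rw [Groth.OmegaSheaf.idealSect_smul, idealSect_res', idealSect_res'] at hqa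
      have h1 := congrArg (c.app ((W i).1 ⊓ (W j).1)) hs
      rw [app_res, hge, res_smul, hp', hqa, Scheme.Modules.Hom.app_smul, app_res, hge, res_smul,
        ← mul_smul, ← mul_smul] at h1
      have h2 := (he j).smul_inj inf_le_right h1
      have hne : resX X (inf_le_right : (W i).1 ⊓ (W j).1 ≤ (W j).1) (OmegaSh.idealSect I (W j).1 (k j)) ≠ 0 :=
        fun h => hk0 j (map_injective_of_isIntegral X (homOfLE inf_le_right) (h.trans (map_zero _).symm))
      have h3 : s = r := mul_right_cancel₀ hne (h2.symm.trans (by rw [← hpq]; ring))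
      rw [hs, h3]
  exact ⟨iso⟩

end Groth.Curves1.Hurwitz
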