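import Groth.Agent.Curves1.Hurwitz.Local
import Groth.Agent.Cycles.NormScheme
import Groth.Agent.Curves1.Trace.Basic
import Groth.Agent.QCohMod.Affine
import Groth.Agent.Curves1.CurveMor.Basic
import Groth.Prelude.Def_Coh

/-!
The stalk of `f_* O_X` at a closed point of a normal curve and its different.
-/

set_option autoImplicit false
set_option linter.style.haveILetI false
set_option linter.unusedSectionVars false
set_option synthInstance.maxHeartbeats 400000
set_option backward.isDefEq.respectTransparency.types false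

universe u

open CategoryTheory Limits AlgebraicGeometry Opposite TopologicalSpace IsLocalRing
open Groth.PicAux Groth.RefRank

namespace Groth.Curves1.Hurwitz

/-- The ramification index of a local homomorphism of discrete valuation rings. -/
theorem ramificationIdx_eq_ord {A O : Type u} [CommRing A] [IsDomain A] [IsDiscreteValuationRing A]
    [CommRing O] [IsDomain O] [IsDiscreteValuationRing O] [Algebra A O] [IsLocalHom (algebraMap A O)]
    {π : A} (hπ : Irreducible π) (hne : algebraMap A O π ≠ 0) :
    Ideal.ramificationIdx (maximalIdeal O) A = (Ring.ord O (algebraMap A O π)).toNat := by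
  obtain ⟨ϖ, hϖ⟩ := IsDiscreteValuationRing.exists_irreducible O
  have hP : maximalIdeal O = Ideal.span {ϖ} := hϖ.maximalIdeal_eq
  obtain ⟨d, c, hc, hd⟩ := WfDvdMonoid.max_power_factor hne hϖ
  have hcP : c ∉ maximalIdeal O := by rwa [hP, Ideal.mem_span_singleton]
  have hcu : IsUnit c := by simpa [IsLocalRing.mem_maximalIdeal] using hcP
  haveI : IsLocalization.AtPrime O (maximalIdeal O) :=
    IsLocalization.self fun x hx => by simpa [Ideal.primeCompl, IsLocalRing.mem_maximalIdeal, IsUnit.mem_submonoid_iff] using hx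
  have hO := ord_decomp (maximalIdeal O) O hP hϖ.ne_zero hcP d
  have hS := ord_decomp (maximalIdeal O) (Localization.AtPrime (maximalIdeal O)) hP hϖ.ne_zero hcP d
  rw [← hd, Algebra.algebraMap_self, RingHom.id_apply] at hO
  rw [Ideal.ramificationIdx_def, Ideal.under_def, IsLocalRing.maximalIdeal_comap (algebraMap A O),
    hπ.maximalIdeal_eq, Ideal.map_span, Set.image_singleton,
    IsScalarTower.algebraMap_apply A O (Localization.AtPrime (maximalIdeal O)), hO, hd]
  exact congrArg ENat.toNat hS

/-- Corestriction of a ring map to a ring mapping injectively. -/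
noncomputable def liftInto {R T L : Type*} [CommRing R] [CommRing T] [CommRing L] (i : T →+* L)
    (hi : Function.Injective i) (g : R →+* L) (h : ∀ r, ∃ t, i t = g r) : R →+* T :=
  ((RingEquiv.ofBijective i.rangeRestrict ⟨fun _ _ e => hi (congrArg Subtype.val e),
    i.rangeRestrict_surjective⟩).symm : i.range →+* T).comp (g.codRestrict i.range h)

theorem liftInto_spec {R T L : Type*} [CommRing R] [CommRing T] [CommRing L] (i : T →+* L)
    (hi : Function.Injective i) (g : R →+* L) (h : ∀ r, ∃ t, i t = g r) (r : R) :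
    i (liftInto i hi g h r) = g r :=
  congrArg Subtype.val ((RingEquiv.ofBijective i.rangeRestrict ⟨fun _ _ e => hi (congrArg Subtype.val e),
    i.rangeRestrict_surjective⟩).apply_symm_apply ⟨g r, h r⟩)

variable {X Y : Scheme.{u}} [IsIntegral X] [IsIntegral Y] (π : X ⟶ Y) [IsFinite π] [Surjective π]

/-- The local ring at `y` acting on the function field of `X`. -/
@[implicit_reducible]
noncomputable def stalkAlg (y : Y) : Algebra (Y.presheaf.stalk y) X.functionField :=
  ((ffMap π).hom.comp (algebraMap (Y.presheaf.stalk y) Y.functionField)).toAlgebra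

/-- The value in the function field of a germ of `π_* O_X`. -/
theorem exists_germVal (y : Y) :
    ∃ ε : ((Scheme.Modules.pushforward π).obj (Coh.structureModule X)).presheaf.stalk y →+ X.functionField,
      (∀ (U : Y.Opens) (hy : y ∈ U) (s : Γ(X, π ⁻¹ᵁ U)),
        ε (((Scheme.Modules.pushforward π).obj (Coh.structureModule X)).presheaf.germ U y hy
          (show Γ((Scheme.Modules.pushforward π).obj (Coh.structureModule X), U) from s)) =
          (haveI : Nonempty U := ⟨⟨y, hy⟩⟩; haveI := nonempty_preimage π U
           X.germToFunctionField (π ⁻¹ᵁ U) s)) ∧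
      Function.Injective ε ∧
      (∀ (a : Y.presheaf.stalk y) t, ε (a • t) =
        ffMap π (algebraMap (Y.presheaf.stalk y) Y.functionField a) * ε t) ∧
      (Pi1.IsNormalScheme X → ∀ z : X.functionField,
        (letI := stalkAlg π y; IsIntegral (Y.presheaf.stalk y) z) ↔ ∃ t, ε t = z) := by
  classical
  let E := (Scheme.Modules.pushforward π).obj (Coh.structureModule X)
  let c : Cocone ((OpenNhds.inclusion y).op ⋙ E.presheaf) :=
    { pt := AddCommGrpCat.of X.functionField
      ι :=
        { app := fun U => AddCommGrpCat.ofHom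
            (haveI : Nonempty U.unop.1 := ⟨⟨y, U.unop.2⟩⟩; haveI := nonempty_preimage π U.unop.1
             ((X.germToFunctionField (π ⁻¹ᵁ U.unop.1)).hom.toAddMonoidHom :
              Γ(X, π ⁻¹ᵁ U.unop.1) →+ X.functionField))
          naturality := fun U V i => by
            ext s
            haveI : Nonempty U.unop.1 := ⟨⟨y, U.unop.2⟩⟩
            haveI : Nonempty V.unop.1 := ⟨⟨y, V.unop.2⟩⟩
            haveI := nonempty_preimage π U.unop.1
            haveI := nonempty_preimage π V.unop.1
            exact TopCat.Presheaf.germ_res_apply X.presheaf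
              (homOfLE (π.preimage_mono (leOfHom ((OpenNhds.inclusion y).map i.unop)))) _ _ s } }
  let ε : E.presheaf.stalk y →+ X.functionField := (colimit.desc _ c).hom
  have hε : ∀ (U : Y.Opens) (hy : y ∈ U) (s : Γ(X, π ⁻¹ᵁ U)),
      ε (E.presheaf.germ U y hy (show Γ(E, U) from s)) =
        (haveI : Nonempty U := ⟨⟨y, hy⟩⟩; haveI := nonempty_preimage π U
         X.germToFunctionField (π ⁻¹ᵁ U) s) := fun U hy s =>
    congr($(colimit.ι_desc c (op ⟨U, hy⟩)) (show Γ(E, U) from s))
  have hεsmul : ∀ (a : Y.presheaf.stalk y) (t : E.presheaf.stalk y), ε (a • t) =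
      ffMap π (algebraMap (Y.presheaf.stalk y) Y.functionField a) * ε t := by
    intro a t
    obtain ⟨U, hy, m, rfl⟩ := Groth.QCohMod.exists_germ E y t
    obtain ⟨W, hW, b, rfl⟩ := TopCat.Presheaf.exists_germ_eq Y.presheaf a
    have hne : Nonempty (U ⊓ W : Y.Opens) := ⟨⟨y, hy, hW⟩⟩
    haveI : Nonempty W := ⟨⟨y, hW⟩⟩
    haveI : Nonempty U := ⟨⟨y, hy⟩⟩
    haveI := nonempty_preimage π (U ⊓ W)
    haveI := nonempty_preimage π U
    rw [← Groth.QCohMod.germ_res E (inf_le_left : U ⊓ W ≤ U) y ⟨hy, hW⟩ m,
      ← TopCat.Presheaf.germ_res_apply Y.presheaf (homOfLE (inf_le_right : U ⊓ W ≤ W)) y ⟨hy, hW⟩ b]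
    erw [← Groth.QCohMod.germ_smul]
    erw [hε, hε]
    refine (map_mul (X.germToFunctionField (π ⁻¹ᵁ (U ⊓ W))).hom (π.app (U ⊓ W) _) _).trans ?_
    congr 1
    rw [Scheme.algebraMap_germ_eq_germToFunctionField, ffMap_germ π (U ⊓ W)]
  refine ⟨ε, hε, ?_, hεsmul, fun hX z => ?_⟩
  · refine (injective_iff_map_eq_zero ε).2 fun t ht => ?_
    obtain ⟨U, hy, m, rfl⟩ := Groth.QCohMod.exists_germ E y t
    haveI : Nonempty U := ⟨⟨y, hy⟩⟩
    haveI := nonempty_preimage π U
    have h0 : (show Γ(X, π ⁻¹ᵁ U) from m) = 0 := by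
      refine X.germToFunctionField_injective (π ⁻¹ᵁ U) ?_
      rw [map_zero]
      exact (hε U hy m).symm.trans ht
    rw [show m = 0 from h0, map_zero]
  · letI := stalkAlg π y
    obtain ⟨V, hV, hyV, -⟩ := exists_isAffineOpen_mem_and_subset (x := y) (U := (⊤ : Y.Opens)) trivial
    constructor
    · intro hz
      haveI : Nonempty V := ⟨⟨y, hyV⟩⟩
      haveI := nonempty_preimage π V
      letI := TopCat.Presheaf.algebra_section_stalk Y.presheaf (⟨y, hyV⟩ : V)
      haveI := hV.isLocalization_stalk ⟨y, hyV⟩
      letI : Algebra Γ(Y, V) X.functionField :=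
        ((algebraMap (Y.presheaf.stalk y) X.functionField).comp (algebraMap Γ(Y, V) (Y.presheaf.stalk y))).toAlgebra
      haveI : IsScalarTower Γ(Y, V) (Y.presheaf.stalk y) X.functionField := IsScalarTower.of_algebraMap_eq' rfl
      obtain ⟨⟨a, ha⟩, haz⟩ :=
        IsIntegral.exists_multiple_integral_of_isLocalization (hV.primeIdealOf ⟨y, hyV⟩).asIdeal.primeCompl z hz
      letI : Algebra Γ(X, π ⁻¹ᵁ V) X.functionField := (X.germToFunctionField (π ⁻¹ᵁ V)).hom.toAlgebra
      letI := (π.app V).hom.toAlgebra
      haveI : IsScalarTower Γ(Y, V) Γ(X, π ⁻¹ᵁ V) X.functionField := IsScalarTower.of_algebraMap_eq fun g => by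
        show ffMap π (algebraMap (Y.presheaf.stalk y) Y.functionField (Y.presheaf.germ V y hyV g)) = _
        rw [Scheme.algebraMap_germ_eq_germToFunctionField, ffMap_germ π V]
        rfl
      haveI := functionField_isFractionRing_of_isAffineOpen X (π ⁻¹ᵁ V) (hV.preimage π)
      haveI : IsIntegrallyClosed Γ(X, π ⁻¹ᵁ V) := Groth.Variety2.isIntegrallyClosed_Γ (fun x => (hX x).2) _
      haveI : Module.Finite Γ(Y, V) Γ(X, π ⁻¹ᵁ V) := IsFinite.finite_app (f := π) V hV
      obtain ⟨s, hs⟩ := IsIntegrallyClosed.isIntegral_iff.1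
        (show IsIntegral Γ(X, π ⁻¹ᵁ V) (a • z) from haz.tower_top)
      obtain ⟨u, hu⟩ := IsLocalization.map_units (Y.presheaf.stalk y)
        (⟨a, ha⟩ : (hV.primeIdealOf ⟨y, hyV⟩).asIdeal.primeCompl)
      refine ⟨(↑u⁻¹ : Y.presheaf.stalk y) • E.presheaf.germ V y hyV (show Γ(E, V) from s), ?_⟩
      rw [hεsmul, hε]
      rw [show X.germToFunctionField (π ⁻¹ᵁ V) s = algebraMap Γ(X, π ⁻¹ᵁ V) X.functionField s from rfl, hs,
        Algebra.smul_def, IsScalarTower.algebraMap_apply Γ(Y, V) (Y.presheaf.stalk y) X.functionField, ← hu]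
      show algebraMap (Y.presheaf.stalk y) X.functionField ↑u⁻¹ * _ = z
      rw [← mul_assoc, ← map_mul, Units.inv_mul, map_one, one_mul]
    · rintro ⟨t, rfl⟩
      obtain ⟨U, hy, m, rfl⟩ := Groth.QCohMod.exists_germ E y t
      obtain ⟨W, hW, hyW, hWU⟩ := exists_isAffineOpen_mem_and_subset (x := y) (U := U) hy
      haveI : Nonempty W := ⟨⟨y, hyW⟩⟩
      haveI := nonempty_preimage π W
      rw [← Groth.QCohMod.germ_res E hWU y hyW m]
      erw [hε]
      letI := (π.app W).hom.toAlgebra
      haveI : Module.Finite Γ(Y, W) Γ(X, π ⁻¹ᵁ W) := IsFinite.finite_app (f := π) W hW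
      letI := TopCat.Presheaf.algebra_section_stalk Y.presheaf (⟨y, hyW⟩ : W)
      letI : Algebra Γ(Y, W) X.functionField :=
        ((algebraMap (Y.presheaf.stalk y) X.functionField).comp (algebraMap Γ(Y, W) (Y.presheaf.stalk y))).toAlgebra
      haveI : IsScalarTower Γ(Y, W) (Y.presheaf.stalk y) X.functionField := IsScalarTower.of_algebraMap_eq' rfl
      letI : Algebra Γ(X, π ⁻¹ᵁ W) X.functionField := (X.germToFunctionField (π ⁻¹ᵁ W)).hom.toAlgebra
      haveI : IsScalarTower Γ(Y, W) Γ(X, π ⁻¹ᵁ W) X.functionField := IsScalarTower.of_algebraMap_eq fun g => by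
        show ffMap π (algebraMap (Y.presheaf.stalk y) Y.functionField (Y.presheaf.germ W y hyW g)) = _
        rw [Scheme.algebraMap_germ_eq_germToFunctionField, ffMap_germ π W]
        rfl
      exact ((Algebra.IsIntegral.isIntegral (R := Γ(Y, W))
        (show Γ(X, π ⁻¹ᵁ W) from res E hWU m)).algebraMap (B := X.functionField)).tower_top

/-- The local data of the different at a closed point. -/
theorem exists_local_data [IsLocallyNoetherian X] [IsLocallyNoetherian Y] (hX : Pi1.IsNormalScheme X)
    (hY : Pi1.IsNormalScheme Y) (hdX : topologicalKrullDim X ≤ 1)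
    (hsep : letI := (ffMap π).hom.toAlgebra; Algebra.IsSeparable Y.functionField X.functionField)
    (y : Y) (hdim : ringKrullDim (Y.presheaf.stalk y) = 1) :
    letI := (ffMap π).hom.toAlgebra
    letI := stalkAlg π y
    Finite {x : X // π x = y} ∧
    ∃ d : X → ℕ,
      (∀ x, π x = y →
        letI := (π.stalkMap x).hom.toAlgebra
        letI := (π.residueFieldMap x).hom.toAlgebra
        Ideal.ramificationIdx (maximalIdeal (X.presheaf.stalk x)) (Y.presheaf.stalk (π x)) - 1 ≤ d x ∧
        (d x = Ideal.ramificationIdx (maximalIdeal (X.presheaf.stalk x)) (Y.presheaf.stalk (π x)) - 1 ↔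
          Algebra.IsSeparable (Y.residueField (π x)) (X.residueField x) ∧
            ((Ideal.ramificationIdx (maximalIdeal (X.presheaf.stalk x)) (Y.presheaf.stalk (π x)) : ℕ) :
              Y.residueField (π x)) ≠ 0)) ∧
      ∀ {m : ℕ} (_ : Module.finrank Y.functionField X.functionField = m)
        (r : Fin m → integralClosure (Y.presheaf.stalk y) X.functionField),
        LinearIndependent Y.functionField (fun i => (r i : X.functionField)) →
        ∃ ℓ : ℕ, Module.length (Y.presheaf.stalk y)
            (integralClosure (Y.presheaf.stalk y) X.functionField ⧸ Submodule.span (Y.presheaf.stalk y) (Set.range r))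
              = (ℓ : ℕ∞) ∧
          CycAlg.ordFrac (Y.presheaf.stalk y) Y.functionField
              (Algebra.discr Y.functionField fun i => (r i : X.functionField)) =
            2 * (ℓ : ℤ) + ∑ᶠ x : {x : X // π x = y}, (π.residueDegree x.1 : ℤ) * (d x.1 : ℤ) := by
  classical
  letI := (ffMap π).hom.toAlgebra
  letI := stalkAlg π y
  let A := Y.presheaf.stalk y
  haveI := hsep
  haveI : FiniteDimensional Y.functionField X.functionField := Module.finite_of_finrank_pos (ffDeg_pos π)
  haveI : IsScalarTower A Y.functionField X.functionField := IsScalarTower.of_algebraMap_eq fun _ => rfl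
  haveI : IsIntegrallyClosed A := (hY y).2
  haveI : IsDedekindDomain A := CurveMor.isDedekindDomain_of_dim_le_one hdim.le
  haveI : IsDiscreteValuationRing A := by
    haveI := CurveMor.isPrincipalIdealRing_of_local (R := A)
    have hbot : maximalIdeal A ≠ ⊥ := fun h => by
      have hf : IsField A := IsLocalRing.isField_iff_maximalIdeal_eq.2 h
      rw [ringKrullDim_eq_zero_of_isField hf] at hdim
      exact zero_ne_one hdim
    exact { not_a_field' := hbot }
  let B := integralClosure A X.functionField
  haveI : IsIntegralClosure B A X.functionField := integralClosure.isIntegralClosure A X.functionField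
  haveI : IsFractionRing B X.functionField :=
    IsIntegralClosure.isFractionRing_of_finite_extension A Y.functionField X.functionField B
  haveI : Module.Finite A B := IsIntegralClosure.finite A Y.functionField X.functionField B
  haveI : IsDedekindDomain B := IsIntegralClosure.isDedekindDomain A Y.functionField X.functionField B
  have hAL : Function.Injective (algebraMap A X.functionField) :=
    (ffMap π).hom.injective.comp (IsFractionRing.injective A Y.functionField)
  have hAB : Function.Injective (algebraMap A B) := fun a b h => hAL (congrArg Subtype.val h)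
  haveI : Module.IsTorsionFree A B := by
    haveI : FaithfulSMul A B := (faithfulSMul_iff_algebraMap_injective A B).2 hAB
    infer_instance
  haveI := finite_maximalSpectrum' A B
  haveI : IsPrincipalIdealRing B := IsPrincipalIdealRing.of_finite_maximals
    ((Set.finite_range fun n : MaximalSpectrum B => n.asIdeal).subset fun I hI => ⟨⟨I, hI⟩, rfl⟩)
  obtain ⟨δ, hδ0, hcrit, hdisc⟩ := exists_different (A := A) (B := B) (K := Y.functionField) (L := X.functionField)
  -- the map to the local rings above `y`
  have hstalkA : ∀ (x : X) (hx : π x = y) (a : A),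
      algebraMap (X.presheaf.stalk x) X.functionField (π.stalkMap x (Y.presheaf.stalkSpecializes (specializes_of_eq hx) a)) =
        algebraMap A X.functionField a := by
    intro x hx a
    obtain ⟨W, hW, b, rfl⟩ := TopCat.Presheaf.exists_germ_eq Y.presheaf a
    haveI : Nonempty W := ⟨⟨y, hW⟩⟩
    haveI := nonempty_preimage π W
    rw [TopCat.Presheaf.germ_stalkSpecializes_apply, Scheme.Hom.germ_stalkMap_apply,
      Scheme.algebraMap_germ_eq_germToFunctionField]
    show _ = ffMap π (algebraMap (Y.presheaf.stalk y) Y.functionField (Y.presheaf.germ W y hW b))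
    rw [Scheme.algebraMap_germ_eq_germToFunctionField, ffMap_germ π W]
  have hBx : ∀ (x : X), π x = y → ∀ b : B, ∃ t : X.presheaf.stalk x,
      algebraMap (X.presheaf.stalk x) X.functionField t = (b : X.functionField) := by
    intro x hx b
    letI : Algebra A (X.presheaf.stalk x) :=
      ((π.stalkMap x).hom.comp (Y.presheaf.stalkSpecializes (specializes_of_eq hx)).hom).toAlgebra
    haveI : IsScalarTower A (X.presheaf.stalk x) X.functionField :=
      IsScalarTower.of_algebraMap_eq fun a => (hstalkA x hx a).symm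
    haveI := (hX x).2
    exact IsIntegrallyClosed.isIntegral_iff.1 ((b.2 : IsIntegral A (b : X.functionField)).tower_top)
  let β : ∀ x : {x : X // π x = y}, B →+* X.presheaf.stalk x.1 := fun x =>
    liftInto (algebraMap (X.presheaf.stalk x.1) X.functionField) (IsFractionRing.injective _ _)
      B.val.toRingHom (hBx x.1 x.2)
  have hβ : ∀ (x : {x : X // π x = y}) (b : B),
      algebraMap (X.presheaf.stalk x.1) X.functionField (β x b) = (b : X.functionField) := fun x b =>
    liftInto_spec _ (IsFractionRing.injective _ _) B.val.toRingHom (hBx x.1 x.2) b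
  have hβA : ∀ (x : {x : X // π x = y}) (a : A),
      β x (algebraMap A B a) = π.stalkMap x.1 (Y.presheaf.stalkSpecializes (specializes_of_eq x.2) a) :=
    fun x a => IsFractionRing.injective (X.presheaf.stalk x.1) X.functionField
      ((hβ x _).trans (hstalkA x.1 x.2 a).symm)
  -- an affine neighbourhood
  obtain ⟨V, hV, hyV, -⟩ := exists_isAffineOpen_mem_and_subset (x := y) (U := (⊤ : Y.Opens)) trivial
  haveI : Nonempty V := ⟨⟨y, hyV⟩⟩
  haveI := nonempty_preimage π V
  let U := π ⁻¹ᵁ V
  have hU : IsAffineOpen U := hV.preimage π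
  have hxU : ∀ x : {x : X // π x = y}, x.1 ∈ U := fun x => by
    show π x.1 ∈ V
    rw [x.2]
    exact hyV
  letI := (π.app V).hom.toAlgebra
  letI aSL : Algebra Γ(X, U) X.functionField := (X.germToFunctionField U).hom.toAlgebra
  have hSB : ∀ s : Γ(X, U), X.germToFunctionField U s ∈ B := by
    intro s
    letI := TopCat.Presheaf.algebra_section_stalk Y.presheaf (⟨y, hyV⟩ : V)
    letI : Algebra Γ(Y, V) X.functionField :=
      ((algebraMap A X.functionField).comp (algebraMap Γ(Y, V) A)).toAlgebra
    haveI : IsScalarTower Γ(Y, V) A X.functionField := IsScalarTower.of_algebraMap_eq' rfl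
    haveI : IsScalarTower Γ(Y, V) Γ(X, U) X.functionField := IsScalarTower.of_algebraMap_eq fun g => by
      show ffMap π (algebraMap (Y.presheaf.stalk y) Y.functionField (Y.presheaf.germ V y hyV g)) = _
      rw [Scheme.algebraMap_germ_eq_germToFunctionField, ffMap_germ π V]
      rfl
    haveI : Module.Finite Γ(Y, V) Γ(X, U) := IsFinite.finite_app (f := π) V hV
    exact ((Algebra.IsIntegral.isIntegral (R := Γ(Y, V)) s).algebraMap (B := X.functionField)).tower_top
  let ι : Γ(X, U) →+* B := (X.germToFunctionField U).hom.codRestrict B.toSubring hSB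
  have hβι : ∀ (x : {x : X // π x = y}) (s : Γ(X, U)), β x (ι s) = X.presheaf.germ U x.1 (hxU x) s := fun x s =>
    IsFractionRing.injective (X.presheaf.stalk x.1) X.functionField
      ((hβ x _).trans (Scheme.algebraMap_germ_eq_germToFunctionField (X := X) (hxU x) s).symm)
  have hnMax : ∀ x : {x : X // π x = y}, ((maximalIdeal (X.presheaf.stalk x.1)).comap (β x)).IsMaximal := by
    intro x
    refine Ideal.isMaximal_of_isIntegral_of_isMaximal_comap (R := A) _ ?_
    have h : ((maximalIdeal (X.presheaf.stalk x.1)).comap (β x)).comap (algebraMap A B) = maximalIdeal A := by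
      ext a
      rw [Ideal.mem_comap, Ideal.mem_comap, hβA, IsLocalRing.mem_maximalIdeal, IsLocalRing.mem_maximalIdeal]
      simp only [mem_nonunits_iff]
      refine not_congr ⟨fun hu => ?_, fun hu => (hu.map _).map _⟩
      have hu' := (isUnit_map_iff (π.stalkMap x.1).hom _).1 hu
      obtain ⟨x, rfl⟩ := x
      simpa using hu'
    rw [h]
    infer_instance
  let toN : {x : X // π x = y} → MaximalSpectrum B := fun x => ⟨_, hnMax x⟩
  have hprime : ∀ x : {x : X // π x = y},
      (toN x).asIdeal.comap ι = (hU.primeIdealOf ⟨x.1, hxU x⟩).asIdeal := by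
    intro x
    rw [IsAffineOpen.primeIdealOf_eq_map_closedPoint]
    ext s
    show β x (ι s) ∈ maximalIdeal _ ↔ _
    rw [hβι]
    rfl
  have htoN : Function.Bijective toN := by
    constructor
    · intro a b hab
      refine Subtype.ext ?_
      have h : hU.primeIdealOf ⟨a.1, hxU a⟩ = hU.primeIdealOf ⟨b.1, hxU b⟩ :=
        PrimeSpectrum.ext (by rw [← hprime a, ← hprime b, hab])
      simpa only [IsAffineOpen.fromSpec_primeIdealOf] using congrArg hU.fromSpec h
    · intro n
      haveI := n.isMaximal
      let P : PrimeSpectrum Γ(X, U) := ⟨n.asIdeal.comap ι, inferInstance⟩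
      have hmem : hU.fromSpec P ∈ U := hU.range_fromSpec.le ⟨P, rfl⟩
      have hPeq : hU.primeIdealOf ⟨_, hmem⟩ = P :=
        hU.fromSpec.isOpenEmbedding.injective (hU.fromSpec_primeIdealOf _)
      have hPq : P.asIdeal.comap (π.app V).hom = (hV.primeIdealOf ⟨y, hyV⟩).asIdeal := by
        rw [IsAffineOpen.primeIdealOf_eq_map_closedPoint]
        ext g
        have h1 : ι (π.app V g) = algebraMap A B (Y.presheaf.germ V y hyV g) := Subtype.ext (by
          show X.germToFunctionField U (π.app V g) =
            ffMap π (algebraMap (Y.presheaf.stalk y) Y.functionField (Y.presheaf.germ V y hyV g))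
          rw [Scheme.algebraMap_germ_eq_germToFunctionField, ffMap_germ π V])
        have h2 : n.asIdeal.comap (algebraMap A B) = maximalIdeal A :=
          haveI := Ideal.isMaximal_comap_of_isIntegral_of_isMaximal (R := A) n.asIdeal
          eq_maximalIdeal (R := A) this
        show ι (π.app V g) ∈ n.asIdeal ↔ _
        rw [h1, ← Ideal.mem_comap, h2]
        rfl
      have hpx : π (hU.fromSpec P) = y := by
        have h1 : (hU.primeIdealOf ⟨_, hmem⟩).asIdeal.comap (π.app V).hom =
            (hV.primeIdealOf ⟨π (hU.fromSpec P), hmem⟩).asIdeal := by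
          rw [IsAffineOpen.primeIdealOf_eq_map_closedPoint, IsAffineOpen.primeIdealOf_eq_map_closedPoint]
          show ((maximalIdeal _).comap (X.presheaf.germ U _ hmem).hom).comap (π.app V).hom =
            (maximalIdeal _).comap (Y.presheaf.germ V _ hmem).hom
          rw [Ideal.comap_comap, ← IsLocalRing.maximalIdeal_comap (π.stalkMap (hU.fromSpec P)).hom,
            Ideal.comap_comap]
          congr 1
          rw [← CommRingCat.hom_comp, ← CommRingCat.hom_comp, Scheme.Hom.germ_stalkMap]
        rw [hPeq] at h1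
        have h2 : hV.primeIdealOf ⟨π (hU.fromSpec P), hmem⟩ = hV.primeIdealOf ⟨y, hyV⟩ :=
          PrimeSpectrum.ext (h1.symm.trans hPq)
        simpa only [IsAffineOpen.fromSpec_primeIdealOf] using congrArg hV.fromSpec h2
      let x : {x : X // π x = y} := ⟨hU.fromSpec P, hpx⟩
      refine ⟨x, MaximalSpectrum.ext (n.isMaximal.eq_of_le (hnMax x).ne_top ?_).symm⟩
      intro b hb
      letI := TopCat.Presheaf.algebra_section_stalk Y.presheaf (⟨y, hyV⟩ : V)
      haveI := hV.isLocalization_stalk ⟨y, hyV⟩
      letI : Algebra Γ(Y, V) X.functionField :=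
        ((algebraMap A X.functionField).comp (algebraMap Γ(Y, V) A)).toAlgebra
      haveI : IsScalarTower Γ(Y, V) A X.functionField := IsScalarTower.of_algebraMap_eq' rfl
      haveI : IsScalarTower Γ(Y, V) Γ(X, U) X.functionField := IsScalarTower.of_algebraMap_eq fun g => by
        show ffMap π (algebraMap (Y.presheaf.stalk y) Y.functionField (Y.presheaf.germ V y hyV g)) = _
        rw [Scheme.algebraMap_germ_eq_germToFunctionField, ffMap_germ π V]
        rfl
      haveI := functionField_isFractionRing_of_isAffineOpen X U hU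
      haveI : IsIntegrallyClosed Γ(X, U) := Groth.Variety2.isIntegrallyClosed_Γ (fun x => (hX x).2) _
      haveI : Module.Finite Γ(Y, V) Γ(X, U) := IsFinite.finite_app (f := π) V hV
      obtain ⟨⟨a, ha⟩, haz⟩ := IsIntegral.exists_multiple_integral_of_isLocalization
        (hV.primeIdealOf ⟨y, hyV⟩).asIdeal.primeCompl (b : X.functionField) b.2
      obtain ⟨s, hs⟩ := IsIntegrallyClosed.isIntegral_iff.1
        (show IsIntegral Γ(X, U) (a • (b : X.functionField)) from haz.tower_top)
      have hsb : ι s = algebraMap A B (algebraMap Γ(Y, V) A a) * b := Subtype.ext (by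
        show algebraMap Γ(X, U) X.functionField s = _
        rw [hs, Algebra.smul_def, IsScalarTower.algebraMap_apply Γ(Y, V) A X.functionField]
        rfl)
      have hsx : s ∈ (toN x).asIdeal.comap ι := by
        rw [hprime x, hPeq]
        show ι s ∈ n.asIdeal
        rw [hsb]
        exact n.asIdeal.mul_mem_left _ hb
      rw [Ideal.mem_comap, hsb] at hsx
      refine ((hnMax x).isPrime.mem_or_mem hsx).resolve_left fun hh => (hnMax x).ne_top ?_
      exact Ideal.eq_top_of_isUnit_mem _ hh ((IsLocalization.map_units A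
        (⟨a, ha⟩ : (hV.primeIdealOf ⟨y, hyV⟩).asIdeal.primeCompl)).map _)
  let e : MaximalSpectrum B ≃ {x : X // π x = y} := (Equiv.ofBijective toN htoN).symm
  have hen : ∀ n, toN (e n) = n := fun n => (Equiv.ofBijective toN htoN).apply_symm_apply n
  have hne : ∀ x, e (toN x) = x := fun x => (Equiv.ofBijective toN htoN).symm_apply_apply x
  haveI hfinx : Finite {x : X // π x = y} := Finite.of_equiv _ e
  -- the local rings are localizations
  letI : ∀ n, Algebra B (X.presheaf.stalk (e n).1) := fun n => (β (e n)).toAlgebra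
  haveI hloc : ∀ n : MaximalSpectrum B, IsLocalization.AtPrime (X.presheaf.stalk (e n).1) n.asIdeal := by
    intro n
    have hn : n.asIdeal = (maximalIdeal (X.presheaf.stalk (e n).1)).comap (β (e n)) :=
      congrArg MaximalSpectrum.asIdeal (hen n).symm
    refine ⟨fun b => ?_, fun z => ?_, fun {a b} h => ⟨1, ?_⟩⟩
    · have hb : b.1 ∉ n.asIdeal := b.2
      by_contra hu
      exact hb ((SetLike.ext_iff.1 hn b.1).2 ((IsLocalRing.mem_maximalIdeal _).2 hu))
    · letI := TopCat.Presheaf.algebra_section_stalk X.presheaf (⟨(e n).1, hxU (e n)⟩ : U)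
      haveI := hU.isLocalization_stalk ⟨(e n).1, hxU (e n)⟩
      obtain ⟨⟨s, t⟩, hst⟩ := IsLocalization.surj (hU.primeIdealOf ⟨(e n).1, hxU (e n)⟩).asIdeal.primeCompl z
      refine ⟨⟨ι s, ι t.1, fun ht => t.2 ?_⟩, ?_⟩
      · refine (SetLike.ext_iff.1 (hprime (e n)) t.1).1 ?_
        show ι t.1 ∈ (toN (e n)).asIdeal
        exact (SetLike.ext_iff.1 (congrArg MaximalSpectrum.asIdeal (hen n)) _).2 ht
      · show z * β (e n) (ι t.1) = β (e n) (ι s)
        rw [hβι, hβι]
        exact hst
    · rw [OneMemClass.coe_one, one_mul, one_mul]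
      refine Subtype.ext ?_
      rw [← hβ (e n) a, ← hβ (e n) b]
      exact congrArg _ h
  haveI : ∀ n : MaximalSpectrum B, IsScalarTower B (X.presheaf.stalk (e n).1) X.functionField := fun n =>
    IsScalarTower.of_algebraMap_eq fun b => (hβ (e n) b).symm
  obtain ⟨ϖ, hϖ⟩ := IsDiscreteValuationRing.exists_irreducible A
  choose e' d' he' hd' hle' htame' using fun n : MaximalSpectrum B =>
    haveI := n.isMaximal
    ord_different n.asIdeal (X.presheaf.stalk (e n).1) hϖ hδ0 hcrit
  let d : X → ℕ := fun x => if hx : π x = y then d' (toN ⟨x, hx⟩) else 0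
  refine ⟨hfinx, d, ?_, ?_⟩
  · intro x hx
    subst hx
    have hdn : d x = d' (toN ⟨x, rfl⟩) := dif_pos rfl
    generalize hn : toN ⟨x, rfl⟩ = n at hdn
    have hxn : (e n) = ⟨x, rfl⟩ := by rw [← hn, hne]
    have hspec : ∀ a : A, Y.presheaf.stalkSpecializes (specializes_of_eq (rfl : π x = π x)) a = a := fun a => by
      rw [TopCat.Presheaf.stalkSpecializes_refl]; rfl
    have E : (Ring.ord (X.presheaf.stalk x) (π.stalkMap x ϖ)) = ((e' n + 1 : ℕ) : ℕ∞) := by
      have h := he' n
      change Ring.ord (X.presheaf.stalk (e n).1) (β (e n) (algebraMap A B ϖ)) = _ at h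
      rw [hxn, hβA] at h
      change Ring.ord (X.presheaf.stalk x)
        (π.stalkMap x (Y.presheaf.stalkSpecializes (specializes_of_eq (rfl : π x = π x)) ϖ)) = _ at h
      rwa [hspec] at h
    letI := (π.stalkMap x).hom.toAlgebra
    letI := (π.residueFieldMap x).hom.toAlgebra
    haveI : IsLocalHom (algebraMap A (X.presheaf.stalk x)) := inferInstanceAs (IsLocalHom (π.stalkMap x).hom)
    have hne0 : algebraMap A (X.presheaf.stalk x) ϖ ≠ 0 := fun h0 => hϖ.ne_zero (hAL (by
      rw [map_zero, ← hstalkA x rfl ϖ, hspec, show π.stalkMap x ϖ = 0 from h0, map_zero]))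
    haveI : IsDiscreteValuationRing (X.presheaf.stalk x) := by
      haveI := (hX x).2
      haveI := CurveMor.isDedekindDomain_of_dim_le_one (CurveMor.ringKrullDim_stalk_le_one hdX x)
      haveI := CurveMor.isPrincipalIdealRing_of_local (R := X.presheaf.stalk x)
      have hbot : maximalIdeal (X.presheaf.stalk x) ≠ ⊥ := fun h => by
        have h2 : π.stalkMap x ϖ ∈ maximalIdeal (X.presheaf.stalk x) :=
          (map_mem_nonunits_iff (π.stalkMap x).hom ϖ).2 hϖ.not_isUnit
        rw [h, Ideal.mem_bot] at h2
        exact hne0 h2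
      exact { not_a_field' := hbot }
    have hidx : Ideal.ramificationIdx (maximalIdeal (X.presheaf.stalk x)) A = e' n + 1 := by
      rw [ramificationIdx_eq_ord hϖ hne0]
      exact (congrArg ENat.toNat E).trans (ENat.toNat_natCast _)
    rw [hidx, Nat.add_sub_cancel, hdn]
    refine ⟨hle' n, (htame' n).trans (and_congr ?_ Iff.rfl)⟩
    haveI := n.isMaximal
    letI := resAlg (A := A) n.asIdeal
    subst hn
    haveI hloc' : @IsLocalization.AtPrime B _ (X.presheaf.stalk x) _ (β ⟨x, rfl⟩).toAlgebra
        (toN ⟨x, rfl⟩).asIdeal _ := by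
      have key : ∀ (n : MaximalSpectrum B) (z : {x' : X // π x' = π x}), z = e n →
          @IsLocalization.AtPrime B _ (X.presheaf.stalk z.1) _ (β z).toAlgebra n.asIdeal _ := by
        rintro n z rfl
        exact hloc n
      exact key _ _ (hne _).symm
    letI := (β ⟨x, rfl⟩).toAlgebra
    let e₂ := IsLocalization.AtPrime.equivQuotMaximalIdeal (toN ⟨x, rfl⟩).asIdeal (X.presheaf.stalk x)
    have hcomp : ∀ a : A ⧸ maximalIdeal A, e₂ (algebraMap (A ⧸ maximalIdeal A) _ a) =
        algebraMap (Y.residueField (π x)) (X.residueField x) a := by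
      intro a
      obtain ⟨a, rfl⟩ := Ideal.Quotient.mk_surjective a
      show e₂ (Ideal.Quotient.mk _ (algebraMap A B a)) = π.residueFieldMap x (Y.residue (π x) a)
      rw [← CommRingCat.comp_apply (Y.residue (π x)), Scheme.residue_residueFieldMap, CommRingCat.comp_apply,
        IsLocalization.AtPrime.equivQuotMaximalIdeal_apply_mk]
      show Ideal.Quotient.mk _ (β ⟨x, rfl⟩ (algebraMap A B a)) = _
      rw [hβA, hspec]
      rfl
    letI : Field (A ⧸ maximalIdeal A) := Ideal.Quotient.field _
    constructor
    · intro h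
      exact Algebra.IsSeparable.of_equiv_equiv (A₁ := A ⧸ maximalIdeal A) (B₁ := B ⧸ (toN ⟨x, rfl⟩).asIdeal)
        (A₂ := Y.residueField (π x)) (B₂ := X.residueField x) (RingEquiv.refl _) e₂
        (RingHom.ext fun a => (hcomp a).symm)
    · intro h
      exact Algebra.IsSeparable.of_equiv_equiv (A₁ := Y.residueField (π x)) (B₁ := X.residueField x)
        (A₂ := A ⧸ maximalIdeal A) (B₂ := B ⧸ (toN ⟨x, rfl⟩).asIdeal) (RingEquiv.refl _) e₂.symm
        (RingHom.ext fun a => e₂.injective ((hcomp a).trans (e₂.apply_symm_apply _).symm))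
  · intro m hm r hr
    haveI : ∀ z : X, Ring.KrullDimLE 1 (X.presheaf.stalk z) := fun z =>
      Ring.krullDimLE_iff.2 (by exact_mod_cast CurveMor.ringKrullDim_stalk_le_one hdX z)
    obtain ⟨ℓ, hℓ, heq⟩ := hdisc hm r hr
    refine ⟨ℓ, hℓ, ?_⟩
    rw [show (fun i => (r i : X.functionField)) = (fun i => algebraMap B X.functionField (r i)) from rfl, heq]
    congr 1
    have hδL : algebraMap B X.functionField δ ≠ 0 :=
      (map_ne_zero_iff _ (IsFractionRing.injective B X.functionField)).2 hδ0
    rw [Groth.Cycles.ordFrac_norm_eq_finsum A B Y.functionField X.functionField hdim hAB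
      (fun n => X.presheaf.stalk (e n).1) hδL, ← finsum_comp_equiv e]
    refine finsum_congr fun n => ?_
    congr 1
    · haveI := n.isMaximal
      congr 1
      letI : Algebra A (X.presheaf.stalk (e n).1) :=
        ((π.stalkMap (e n).1).hom.comp (Y.presheaf.stalkSpecializes (specializes_of_eq (e n).2)).hom).toAlgebra
      rw [← Groth.Cycles.toNat_length_residueField π (e n).1 y (e n).2]
      congr 1
      let e₂ := IsLocalization.AtPrime.equivQuotMaximalIdeal n.asIdeal (X.presheaf.stalk (e n).1)
      let l : (B ⧸ n.asIdeal) ≃ₗ[A] ResidueField (X.presheaf.stalk (e n).1) :=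
        { e₂.toAddEquiv with
          map_smul' := fun a v => by
            obtain ⟨b, rfl⟩ := Ideal.Quotient.mk_surjective v
            show e₂ (Ideal.Quotient.mk _ (a • b)) = _
            rw [IsLocalization.AtPrime.equivQuotMaximalIdeal_apply_mk, Algebra.smul_def, map_mul, map_mul]
            show _ * e₂ (Ideal.Quotient.mk _ b) = a • e₂ (Ideal.Quotient.mk _ b)
            rw [show algebraMap B (X.presheaf.stalk (e n).1) (algebraMap A B a) =
              algebraMap A (X.presheaf.stalk (e n).1) a from hβA (e n) a, Algebra.smul_def]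
            rfl }
      exact l.length_eq
    · have hS : Ring.ord (X.presheaf.stalk (e n).1) (β (e n) δ) = (d' n : ℕ∞) := hd' n
      have hdd : d (e n).1 = d' n := by
        show dite _ _ _ = _
        rw [dif_pos (e n).2]
        exact congrArg d' (hen n)
      rw [hdd]
      show CycAlg.ordFrac (X.presheaf.stalk (e n).1) X.functionField (δ : X.functionField) = _
      rw [← hβ (e n) δ, Groth.RefRank.ordFrac_algebraMap' (fun h0 => hδL (by
        show (δ : X.functionField) = 0
        rw [← hβ (e n) δ, h0, map_zero])), hS, ENat.toNat_natCast]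

end Groth.Curves1.Hurwitz
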